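import Cfsg.Agent.Lib.Invol.LargePrimeMix.Inverted

/-!
# The case of involution centralizers of order `2 ^ b`
-/

set_option autoImplicit false
set_option linter.style.haveILetI false
set_option linter.unusedSectionVars false

open Subgroup

namespace CfsgLib.LargePrimeMix

universe u

variable {G : Type u} [Group G] [Finite G]

theorem card_offDiag {T : Type*} [Finite T] :
    Nat.card {x : T × T // x.1 ≠ x.2} + Nat.card T = Nat.card T * Nat.card T := by
  classical
  haveI := Fintype.ofFinite T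
  let e : {x : T × T // x.1 = x.2} ≃ T :=
    { toFun := fun x => x.1.1
      invFun := fun t => ⟨(t, t), rfl⟩
      left_inv := fun x => Subtype.ext (Prod.ext rfl x.2)
      right_inv := fun _ => rfl }
  have h0 := Nat.card_congr e
  rw [Nat.card_eq_fintype_card (α := {x : T × T // x.1 = x.2})] at h0
  rw [← Nat.card_prod, ← h0, Nat.card_eq_fintype_card, Nat.card_eq_fintype_card]
  have h1 := Fintype.card_subtype_compl (fun x : T × T => x.1 = x.2)
  have h2 := Fintype.card_subtype_le (fun x : T × T => x.1 = x.2)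
  simp only [ne_eq] at h1 ⊢
  omega

theorem card_conjugates {C : Subgroup G} {t : G} (hC : C = centralizer ({t} : Set G))
    (S : Set G) (hS : ∀ u, u ∈ S ↔ ∃ g : G, g * t * g⁻¹ = u) :
    Nat.card S * Nat.card C = Nat.card G := by
  have hstep : ∀ a c : G, a⁻¹ * c ∈ C ↔ a * t * a⁻¹ = c * t * c⁻¹ := fun a c => by
    rw [hC, mem_centralizer_singleton_iff]
    constructor
    · intro h
      calc a * t * a⁻¹ = a * (t * (a⁻¹ * c)) * c⁻¹ := by group
        _ = a * ((a⁻¹ * c) * t) * c⁻¹ := by rw [h]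
        _ = c * t * c⁻¹ := by group
    · intro h
      calc a⁻¹ * c * t = a⁻¹ * (c * t * c⁻¹) * c := by group
        _ = a⁻¹ * (a * t * a⁻¹) * c := by rw [h]
        _ = t * (a⁻¹ * c) := by group
  let f : G ⧸ C → S := fun q => Quotient.liftOn' q
    (fun g => ⟨g * t * g⁻¹, (hS _).2 ⟨g, rfl⟩⟩)
    fun a c h => Subtype.ext ((hstep a c).1 (QuotientGroup.leftRel_apply.1 h))
  have hf : Function.Bijective f := by
    constructor
    · intro a c
      induction a using QuotientGroup.induction_on with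
      | H a =>
      induction c using QuotientGroup.induction_on with
      | H c =>
      intro h
      exact QuotientGroup.eq.2 ((hstep a c).2 (congrArg Subtype.val h))
    · rintro ⟨u, hu⟩
      obtain ⟨g, hg⟩ := (hS u).1 hu
      exact ⟨(g : G ⧸ C), Subtype.ext hg⟩
  rw [← Nat.card_eq_of_bijective f hf, ← Subgroup.index_eq_card, Subgroup.index_mul_card]

namespace Ctx

variable {p b : ℕ} [hp : Fact p.Prime] {Q : Sylow 2 G} {y : G} (X : Ctx G p b Q y)
include X

theorem false_of_Oz_bot (hO : ∀ t ∈ (Q : Subgroup G), t ≠ 1 → Oz p t = ⊥) : False := by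
  classical
  haveI := Fintype.ofFinite G
  have hnop : ∀ d : G, (∃ k, d ^ p ^ k = 1) → ∀ z, orderOf z = 2 → Commute d z → d = 1 := by
    intro d hd z hz hdz
    obtain ⟨g, hgQ, hgd⟩ := X.commute_conj hd hz hdz
    rw [hO _ hgQ (fun e => ne_one_of_orderOf_two hz (conj_eq_one_iff.1 e)), mem_bot] at hgd
    exact conj_eq_one_iff.1 hgd
  have hCQ : ∀ t ∈ (Q : Subgroup G), t ≠ 1 → centralizer ({t} : Set G) = (Q : Subgroup G) :=
    fun t ht ht1 => le_antisymm ((X.centralizer_le_Oz_sup ht ht1).trans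
      (sup_le (by rw [hO t ht ht1]; exact bot_le) le_rfl))
      fun q hq => mem_centralizer_singleton_iff.2 (X.commQ hq ht)
  have hZ : ∀ s t z : G, orderOf s = 2 → orderOf t = 2 → orderOf z = 2 → Commute s z →
      Commute t z → Commute s t := by
    intro s t z _ _ hz hsz htz
    obtain ⟨g, hg⟩ := X.inv_conj hz
    have hg1 : g * z * g⁻¹ ≠ 1 := fun e => ne_one_of_orderOf_two hz (conj_eq_one_iff.1 e)
    have hs' : g * s * g⁻¹ ∈ (Q : Subgroup G) := (hCQ _ hg hg1).le
      (mem_centralizer_singleton_iff.2 (hsz.map (MulAut.conj g)).eq)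
    have ht' : g * t * g⁻¹ ∈ (Q : Subgroup G) := (hCQ _ hg hg1).le
      (mem_centralizer_singleton_iff.2 (htz.map (MulAut.conj g)).eq)
    exact (MulAut.conj g).injective (by rw [map_mul, map_mul]; exact X.commQ hs' ht')
  have hex := fun {s t : G} => X.exists_inverted hZ
    (fun d hd hd1 _ _ _ z hz hc => hd1 (hnop d hd z hz hc)) (s := s) (t := t)
  -- involutions in normalizers of Sylow subgroups
  let T : Sylow p G → Type u := fun P =>
    {u : G // orderOf u = 2 ∧ u ∈ normalizer ((P : Subgroup G) : Set G)}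
  have hinv : ∀ (P : Sylow p G) (u : T P), ∀ d ∈ (P : Subgroup G), u.1 * d * u.1⁻¹ = d⁻¹ :=
    fun P u d hd => X.inverts P.2 u.2.1 u.2.2
      (fun e he hc => hnop e (exists_pow_of_isPGroup P.2 he) _ u.2.1 hc) hd
  have hCd : ∀ (P : Sylow p G) (u : T P), ∀ d ∈ (P : Subgroup G), d ≠ 1 →
      centralizer ({d} : Set G) = (P : Subgroup G) := by
    intro P u d hd hd1
    have hdp := exists_pow_of_isPGroup P.2 hd
    set N := normalizer (zpowers d : Set G)
    have huN : u.1 ∈ N := by
      refine CfsgLib.Fusion.conjBy_eq_iff.1 (CfsgLib.Fusion.conjBy_eq_of_le ?_)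
      rintro _ ⟨w, ⟨i, rfl⟩, rfl⟩
      show u.1 * d ^ i * u.1⁻¹ ∈ zpowers d
      rw [← conj_zpow, hinv P u d hd]
      exact zpow_mem (inv_mem (mem_zpowers d)) i
    have hCN : centralizer ({d} : Set G) ≤ N := fun c hc =>
      centralizer_le_normalizer _ (mem_centralizer_iff.2 fun w hw => by
        obtain ⟨i, rfl⟩ := hw
        exact ((show Commute c d from mem_centralizer_singleton_iff.1 hc).zpow_right i).eq.symm)
    have hN : N ≠ ⊤ := X.normalizer_ne_top_of_isPGroup (isPGroup_zpowers hdp) (zpowers_ne_bot.2 hd1)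
    have hCp : IsPGroup p (centralizer ({d} : Set G)) :=
      X.isPGroup_of_odd hN hCN (u.2.1 ▸ orderOf_dvd_natCard N huN) fun h2 => by
        obtain ⟨z, hz⟩ := exists_prime_orderOf_dvd_card' 2 h2
        exact hd1 (hnop d hdp z (by rwa [Subgroup.orderOf_coe])
          (show Commute (z : G) d from mem_centralizer_singleton_iff.1 z.2).symm)
    exact P.is_maximal' hCp (X.le_sylow_centralizer P hd)
  have hmul : ∀ (P : Sylow p G) (u v : T P), u.1 * v.1 ∈ (P : Subgroup G) := by
    intro P u v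
    obtain ⟨⟨d, hd⟩, hne⟩ := ne_bot_iff_exists_ne_one.1 (X.sylow_ne_bot P)
    have hd1 : d ≠ 1 := fun h => hne (Subtype.ext h)
    refine (hCd P u d hd hd1).le (mem_centralizer_singleton_iff.2 ?_)
    have h1 : u.1 * v.1 * d * (u.1 * v.1)⁻¹ = d := by
      rw [show u.1 * v.1 * d * (u.1 * v.1)⁻¹ = u.1 * (v.1 * d * v.1⁻¹) * u.1⁻¹ by group,
        hinv P v d hd, hinv P u _ (inv_mem hd), inv_inv]
    exact mul_inv_eq_iff_eq_mul.1 h1
  -- every Sylow subgroup has such an involution
  obtain ⟨s₀, t₀, hs₀, ht₀, hst₀⟩ := X.exists_noncommuting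
  obtain ⟨P₀, -, -, hsP₀, -, -⟩ := hex hs₀ ht₀ hst₀
  have hT : ∀ P : Sylow p G, Nonempty (T P) := by
    intro P
    obtain ⟨g, rfl⟩ := MulAction.exists_smul_eq G P₀ P
    refine ⟨⟨g * s₀ * g⁻¹, (orderOf_conj g s₀).trans hs₀, ?_⟩⟩
    rw [Sylow.coe_subgroup_smul]
    show g * s₀ * g⁻¹ ∈ normalizer ((CfsgLib.Fusion.conjBy g (P₀ : Subgroup G) : Subgroup G) : Set G)
    rw [← CfsgLib.Fusion.conjBy_normalizer]
    exact CfsgLib.Fusion.conj_mem_conjBy hsP₀
  set n := Nat.card (P₀ : Subgroup G) with hn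
  have hPn : ∀ P : Sylow p G, Nat.card (P : Subgroup G) = n := fun P => by
    rw [hn, P.card_eq_multiplicity, P₀.card_eq_multiplicity]
  have hTn : ∀ P : Sylow p G, Nat.card (T P) = n := by
    intro P
    obtain ⟨u⟩ := hT P
    rw [← hPn P]
    symm
    let f : ↥(P : Subgroup G) → T P := fun d => ⟨u.1 * d, by
      refine orderOf_eq_prime ?_ fun h => ?_
      · rw [pow_two, show u.1 * d * (u.1 * d) = (u.1 * d * u.1⁻¹) * (u.1 * u.1) * d by group,
          hinv P u d d.2, mul_self_of_orderOf_two u.2.1, mul_one, inv_mul_cancel]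
      · have hu : u.1 ∈ (P : Subgroup G) := by
          rw [eq_inv_of_mul_eq_one_left h]; exact inv_mem d.2
        exact ne_one_of_orderOf_two u.2.1 (eq_one_of_two_pow_of_ppow X.hp2
          ⟨1, by rw [pow_one, pow_two, mul_self_of_orderOf_two u.2.1]⟩
          (exists_pow_of_isPGroup P.2 hu)),
      mul_mem u.2.2 (le_normalizer d.2)⟩
    refine Nat.card_eq_of_bijective f ⟨fun a c h => Subtype.ext
      (mul_left_cancel (congrArg Subtype.val h : u.1 * (a : G) = u.1 * c)), fun v => ?_⟩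
    refine ⟨⟨u.1 * v.1, hmul P u v⟩, Subtype.ext ?_⟩
    show u.1 * (u.1 * v.1) = v.1
    rw [← mul_assoc, mul_self_of_orderOf_two u.2.1, one_mul]
  obtain ⟨k, hk⟩ := P₀.2.exists_card_eq
  have hk0 : k ≠ 0 := fun h => X.sylow_ne_bot P₀ (card_eq_one.1 (by rw [hk, h, pow_zero]))
  have hn2 : Nat.Coprime n (2 ^ b) := by
    rw [hn, hk]
    exact (((Nat.coprime_primes hp.out Nat.prime_two).2 X.hp2).pow_left k).pow_right b
  have hNcard : Nat.card (normalizer ((P₀ : Subgroup G) : Set G)) = n * 2 := by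
    obtain ⟨u⟩ := hT P₀
    set N := normalizer ((P₀ : Subgroup G) : Set G)
    have hNne : N ≠ ⊤ := X.normalizer_ne_top_of_isPGroup P₀.2 (X.sylow_ne_bot P₀)
    have h2N : 2 ∣ Nat.card N := u.2.1 ▸ orderOf_dvd_natCard N u.2.2
    have hle : N ≤ zpowers u.1 ⊔ (P₀ : Subgroup G) := by
      refine CfsgLib.Fusion.le_of_forall_prime_pow fun s hs x hx hxk => ?_
      by_cases hx1 : x = 1
      · rw [hx1]; exact one_mem _
      have hd : s ∣ Nat.card N := by
        obtain ⟨k, hk⟩ := hxk
        obtain ⟨j, -, hj⟩ := (Nat.dvd_prime_pow hs).1 (orderOf_dvd_of_pow_eq_one hk)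
        have hj0 : j ≠ 0 := fun h0 => hx1 (orderOf_eq_one_iff.1 (by rw [hj, h0, pow_zero]))
        exact (dvd_pow_self s hj0).trans (hj ▸ orderOf_dvd_natCard N hx)
      rcases X.two N hNne h2N s hs hd with rfl | rfl
      · exact mem_sup_right ((P₀.is_maximal' ((isPGroup_zpowers hxk).to_sup_of_normal_right' P₀.2
          (zpowers_le.2 hx)) le_sup_right).le (mem_sup_left (mem_zpowers x)))
      · obtain ⟨S, hS⟩ := (isPGroup_zpowers hxk).exists_le_sylow
        obtain ⟨g, hg⟩ := MulAction.exists_smul_eq G S Q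
        have hgx : g * x * g⁻¹ ∈ (Q : Subgroup G) := by
          rw [← hg]
          exact ⟨x, hS (mem_zpowers x), rfl⟩
        have hx2 : x * x = 1 := conj_eq_one_iff.1
          ((show g * (x * x) * g⁻¹ = (g * x * g⁻¹) * (g * x * g⁻¹) by group).trans (X.sqQ hgx))
        let v : T P₀ := ⟨x, orderOf_eq_prime (by rw [pow_two, hx2]) hx1, hx⟩
        have hv : x = u.1 * (u.1 * v.1) := by
          show x = u.1 * (u.1 * x)
          rw [← mul_assoc, mul_self_of_orderOf_two u.2.1, one_mul]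
        rw [hv]
        exact mul_mem (mem_sup_left (mem_zpowers _)) (mem_sup_right (hmul P₀ u v))
    refine Nat.dvd_antisymm ?_ ?_
    · refine (card_dvd_of_le hle).trans ((CfsgLib.Coprime.card_sup_dvd_of_le_normalizer
        (zpowers_le.2 u.2.2)).trans ?_)
      rw [Nat.card_zpowers, u.2.1, mul_comm]
    · refine Nat.Coprime.mul_dvd_of_dvd_of_dvd ?_ (card_dvd_of_le le_normalizer) h2N
      exact hn2.coprime_dvd_right (dvd_pow_self 2 (by have := X.hb; omega))
  have hsyl : Nat.card (Sylow p G) * (n * 2) = Nat.card G := by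
    rw [← hNcard, Sylow.card_eq_index_normalizer P₀]
    exact Subgroup.index_mul_card _
  -- involutions
  obtain ⟨t₁, ht₁Q, ht₁⟩ := X.exists_two
  let Inv : Set G := {u | orderOf u = 2}
  set I := Nat.card Inv with hI
  have hIcard : I * 2 ^ b = Nat.card G := by
    rw [hI, ← X.cardQ]
    refine card_conjugates (hCQ t₁ ht₁Q (ne_one_of_orderOf_two ht₁)).symm _ fun u => ⟨fun hu => ?_, ?_⟩
    · exact X.all_conj ht₁Q (ne_one_of_orderOf_two ht₁) hu
    · rintro ⟨g, rfl⟩
      exact (orderOf_conj g t₁).trans ht₁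
  have hcomm : ∀ s : Inv, Nat.card {t : Inv // Commute (s : G) t} = 2 ^ b - 1 := by
    intro s
    obtain ⟨g, hg⟩ := X.all_conj ht₁Q (ne_one_of_orderOf_two ht₁) s.2
    let e : {q : ↥(Q : Subgroup G) // q ≠ 1} → {t : Inv // Commute (s : G) t} := fun q =>
      ⟨⟨g * (q.1 : G) * g⁻¹, (orderOf_conj g _).trans
        (X.orderOf_of_mem_Q q.1.2 fun h => q.2 (Subtype.ext h))⟩, by
          rw [← hg]
          exact (show Commute t₁ (q.1 : G) from X.commQ ht₁Q q.1.2).map (MulAut.conj g)⟩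
    have he : Function.Bijective e := by
      constructor
      · intro a c h
        have h1 : g * (a.1 : G) * g⁻¹ = g * c.1 * g⁻¹ :=
          congrArg (fun t : {t : Inv // Commute (s : G) t} => (t.1 : G)) h
        exact Subtype.ext (Subtype.ext (mul_left_cancel (mul_right_cancel h1)))
      · rintro ⟨⟨t, ht⟩, hc⟩
        have h1 : g⁻¹ * t * g⁻¹⁻¹ ∈ (Q : Subgroup G) :=
          (hCQ t₁ ht₁Q (ne_one_of_orderOf_two ht₁)).le (mem_centralizer_singleton_iff.2 (by
            have h2 := ((show Commute t (s : G) from hc.symm).map (MulAut.conj g⁻¹)).eq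
            rw [← hg] at h2
            simpa [mul_assoc] using h2))
        rw [inv_inv] at h1
        refine ⟨⟨⟨_, h1⟩, fun h => ?_⟩, Subtype.ext (Subtype.ext ?_)⟩
        · have h2 : g⁻¹ * t * g = 1 := congrArg Subtype.val h
          exact ne_one_of_orderOf_two ht
            (conj_eq_one_iff.1 (show g⁻¹ * t * g⁻¹⁻¹ = 1 by rw [inv_inv]; exact h2))
        · show g * (g⁻¹ * t * g) * g⁻¹ = t
          group
    have hQc := X.cardQ
    rw [Nat.card_eq_fintype_card] at hQc
    rw [← Nat.card_eq_of_bijective e he, Nat.card_eq_fintype_card, Fintype.card_subtype_compl,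
      Fintype.card_subtype_eq, hQc]
  -- noncommuting pairs
  let F : (Σ P : Sylow p G, {x : T P × T P // x.1 ≠ x.2}) →
      {x : Inv × Inv // ¬ Commute (x.1 : G) x.2} := fun w =>
    ⟨(⟨w.2.1.1.1, w.2.1.1.2.1⟩, ⟨w.2.1.2.1, w.2.1.2.2.1⟩), fun hc => w.2.2 (by
      have h2 : (w.2.1.1.1 * w.2.1.2.1) ^ 2 = 1 := by
        rw [hc.mul_pow, pow_two, pow_two, mul_self_of_orderOf_two w.2.1.1.2.1,
          mul_self_of_orderOf_two w.2.1.2.2.1, one_mul]
      have h3 := eq_one_of_two_pow_of_ppow X.hp2 ⟨1, by rw [pow_one]; exact h2⟩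
        (exists_pow_of_isPGroup w.1.2 (hmul w.1 w.2.1.1 w.2.1.2))
      refine Subtype.ext ?_
      rw [eq_inv_of_mul_eq_one_left h3, inv_of_orderOf_two w.2.1.2.2.1])⟩
  have hF : Function.Bijective F := by
    constructor
    · rintro ⟨P, ⟨⟨u, v⟩, huv⟩⟩ ⟨P', ⟨⟨u', v'⟩, huv'⟩⟩ h
      have h1 : u.1 = u'.1 := congrArg (fun x : {x : Inv × Inv // ¬ Commute (x.1 : G) x.2} =>
        (x.1.1 : G)) h
      have h2 : v.1 = v'.1 := congrArg (fun x : {x : Inv × Inv // ¬ Commute (x.1 : G) x.2} =>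
        (x.1.2 : G)) h
      have hne : u.1 * v.1 ≠ 1 := fun e => huv (Subtype.ext (by
        rw [eq_inv_of_mul_eq_one_left e, inv_of_orderOf_two v.2.1]))
      have hPP : P = P' := Sylow.ext ((hCd P u _ (hmul P u v) hne).symm.trans
        (hCd P' u' _ (h1 ▸ h2 ▸ hmul P' u' v') hne))
      subst hPP
      obtain rfl : u = u' := Subtype.ext h1
      obtain rfl : v = v' := Subtype.ext h2
      rfl
    · rintro ⟨⟨⟨s, hs⟩, ⟨t, ht⟩⟩, hst⟩
      obtain ⟨P, -, -, hsP, htP, -⟩ := hex hs ht hst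
      exact ⟨⟨P, ⟨(⟨s, hs, hsP⟩, ⟨t, ht, htP⟩), fun h => hst (by
        obtain rfl : s = t := congrArg Subtype.val h
        exact Commute.refl _)⟩⟩, rfl⟩
  haveI : Finite (Sylow p G) := inferInstance
  haveI : ∀ P, Fintype (T P) := fun P => Fintype.ofFinite _
  haveI := Fintype.ofFinite (Sylow p G)
  have hNC : Nat.card {x : Inv × Inv // ¬ Commute (x.1 : G) x.2} + Nat.card (Sylow p G) * n =
      Nat.card (Sylow p G) * (n * n) := by
    rw [← Nat.card_eq_of_bijective F hF, Nat.card_sigma]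
    have h1 : ∀ P : Sylow p G, Nat.card {x : T P × T P // x.1 ≠ x.2} + n = n * n := fun P => by
      have := card_offDiag (T := T P)
      rwa [hTn P] at this
    calc ∑ P, Nat.card {x : T P × T P // x.1 ≠ x.2} + Nat.card (Sylow p G) * n
        = ∑ P : Sylow p G, (Nat.card {x : T P × T P // x.1 ≠ x.2} + n) := by
          rw [Finset.sum_add_distrib, Finset.sum_const, Finset.card_univ,
            ← Nat.card_eq_fintype_card, smul_eq_mul]
      _ = _ := by
          rw [Finset.sum_congr rfl fun P _ => h1 P, Finset.sum_const, Finset.card_univ,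
            ← Nat.card_eq_fintype_card, smul_eq_mul]
  have hC : Nat.card {x : Inv × Inv // Commute (x.1 : G) x.2} = I * (2 ^ b - 1) := by
    haveI := Fintype.ofFinite Inv
    rw [Nat.card_congr (Equiv.subtypeProdEquivSigmaSubtype fun a c : Inv => Commute (a : G) c),
      Nat.card_sigma, Finset.sum_congr rfl fun s _ => hcomm s, Finset.sum_const, Finset.card_univ,
      smul_eq_mul, hI, Nat.card_eq_fintype_card]
  have htot : Nat.card {x : Inv × Inv // Commute (x.1 : G) x.2} +
      Nat.card {x : Inv × Inv // ¬ Commute (x.1 : G) x.2} = I * I := by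
    rw [← Nat.card_sum, Nat.card_congr (Equiv.sumCompl _), Nat.card_prod, hI]
  rw [hC] at htot
  set N₀ := Nat.card (Sylow p G)
  set C₀ := Nat.card {x : Inv × Inv // ¬ Commute (x.1 : G) x.2}
  have hI0 : 0 < I := by
    haveI : Nonempty Inv := ⟨⟨t₁, ht₁⟩⟩
    exact Nat.card_pos
  have hdvd : n ∣ I := hn2.dvd_of_dvd_mul_right (hIcard.symm ▸ hsyl ▸ Dvd.intro_left _
    (by ring : N₀ * 2 * n = N₀ * (n * 2)))
  obtain ⟨c, hc⟩ : ∃ c, 2 ^ b = 2 * c :=
    ⟨2 ^ (b - 1), by rw [← pow_succ', Nat.sub_add_cancel (by have := X.hb; omega)]⟩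
  have hpc : p + 1 = 2 * c := X.hpb.trans hc
  rw [hc] at htot hIcard
  have key : (n : ℤ) ∣ (c : ℤ) - 1 := by
    have e1 : (N₀ : ℤ) * (n * 2) = I * (2 * c) := by exact_mod_cast hsyl.trans hIcard.symm
    have e2 : (C₀ : ℤ) + N₀ * n = N₀ * (n * n) := by exact_mod_cast hNC
    have e3 : (I : ℤ) * (2 * c - 1) + C₀ = I * I := by
      have h := congrArg (fun m : ℕ => (m : ℤ)) htot
      push_cast [Nat.cast_sub (show 1 ≤ 2 * c by omega)] at h
      linarith
    have e4 : (I : ℤ) * ((n - 1) * c + 2 * c - 1 - I) = 0 := by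
      have : (N₀ : ℤ) * n = I * c := by linarith
      have e5 : (C₀ : ℤ) = I * c * (n - 1) := by rw [← this]; linarith
      rw [e5] at e3
      linarith
    have e6 : (I : ℤ) = (n - 1) * c + 2 * c - 1 := by
      rcases mul_eq_zero.1 e4 with h | h
      · exact absurd h (by exact_mod_cast hI0.ne')
      · linarith
    obtain ⟨m, hm⟩ := hdvd
    refine ⟨(m : ℤ) - c, ?_⟩
    rw [hm] at e6
    push_cast at e6
    linarith
  have hpn : p ≤ n := by rw [hn, hk]; exact Nat.le_self_pow hk0 p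
  have hc2 : 2 ≤ c := by
    have h4 : 2 * 2 ≤ 2 ^ b := by
      rw [show 2 * 2 = 2 ^ 2 by norm_num]
      exact Nat.pow_le_pow_right (by norm_num) X.hb
    omega
  have := Int.le_of_dvd (by omega) key
  omega

end Ctx

end CfsgLib.LargePrimeMix
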