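import Cfsg.Agent.Lib.Fusion.PComplement
import Cfsg.Agent.Lib.Fusion.Abelian
import Cfsg.Agent.Lib.Coprime.Action
import Cfsg.Agent.Lib.Coprime.Solvable
import Cfsg.Agent.Lib.Char.Burnside

/-!
# Simple groups with elementary Sylow `2`-subgroup of order `p + 1`

The configuration: every proper subgroup of even order is a `{2, p}`-group, `p + 1 = 2 ^ b`, Sylow
`p`-subgroups are abelian and some `p`-element acts nontrivially on a Sylow `2`-subgroup.
-/

set_option autoImplicit false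
set_option linter.style.haveILetI false
set_option linter.unusedSectionVars false

open Subgroup

namespace CfsgLib.LargePrimeMix

universe u

variable {G : Type u} [Group G] [Finite G]

/-- The hypotheses. -/
structure Ctx (G : Type u) [Group G] (p b : ℕ) (Q : Sylow 2 G) (y : G) : Prop where
  simple : IsSimpleGroup G
  nonab : ∃ a c : G, a * c ≠ c * a
  hp2 : p ≠ 2
  hb : 2 ≤ b
  hpb : p + 1 = 2 ^ b
  cardQ : Nat.card (Q : Subgroup G) = 2 ^ b
  two : ∀ H : Subgroup G, H ≠ ⊤ → 2 ∣ Nat.card H →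
    ∀ s : ℕ, s.Prime → s ∣ Nat.card H → s = p ∨ s = 2
  ab : ∀ P : Sylow p G, IsMulCommutative (P : Subgroup G)
  pdvd : p ∣ Nat.card G
  yN : y ∈ normalizer ((Q : Subgroup G) : Set G)
  yp : ∃ k, y ^ p ^ k = 1
  ync : y ∉ centralizer ((Q : Subgroup G) : Set G)

/-- The subgroup generated by the `p`-elements centralizing `t`. -/
def Oz (p : ℕ) (t : G) : Subgroup G :=
  closure {g : G | Commute g t ∧ ∃ k, g ^ p ^ k = 1}

/-- The `p`-core of a subgroup, inside the whole group. -/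
def core (p : ℕ) (H : Subgroup G) : Subgroup G := (Cfsg.pCore p H).map H.subtype

theorem exists_pow_of_isPGroup {p : ℕ} {R : Subgroup G} (hR : IsPGroup p R) {x : G} (hx : x ∈ R) :
    ∃ k, x ^ p ^ k = 1 := by
  obtain ⟨k, hk⟩ := hR ⟨x, hx⟩
  exact ⟨k, congrArg Subtype.val hk⟩

theorem isPGroup_zpowers {p : ℕ} [Fact p.Prime] {x : G} (hx : ∃ k, x ^ p ^ k = 1) :
    IsPGroup p (zpowers x) := by
  obtain ⟨k, hk⟩ := hx
  obtain ⟨j, -, hj⟩ := (Nat.dvd_prime_pow Fact.out).1 (orderOf_dvd_of_pow_eq_one hk)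
  exact IsPGroup.of_card ((Nat.card_zpowers x).trans hj)

theorem eq_one_of_two_pow_of_ppow {p : ℕ} [Fact p.Prime] (hp2 : p ≠ 2) {x : G}
    (h2 : ∃ k, x ^ 2 ^ k = 1) (hp : ∃ k, x ^ p ^ k = 1) : x = 1 := by
  obtain ⟨a, ha⟩ := h2
  obtain ⟨c, hc⟩ := hp
  exact orderOf_eq_one_iff.1 (Nat.eq_one_of_dvd_coprimes
    ((((Nat.coprime_primes Nat.prime_two (Fact.out : p.Prime)).2 hp2.symm).pow_left a).pow_right c)
    (orderOf_dvd_of_pow_eq_one ha) (orderOf_dvd_of_pow_eq_one hc))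

theorem core_le (p : ℕ) (H : Subgroup G) : core p H ≤ H := map_subtype_le _

theorem core_isPGroup (p : ℕ) (H : Subgroup G) : IsPGroup p (core p H) :=
  (CfsgLib.Coprime.pCore_isPGroup p).map _

theorem le_normalizer_core (p : ℕ) (H : Subgroup G) :
    H ≤ normalizer (core p H : Set G) := by
  haveI := CfsgLib.Coprime.pCore_normal' (G := H) p
  intro h hh
  refine CfsgLib.Fusion.conjBy_eq_iff.1 (CfsgLib.Fusion.conjBy_eq_of_le ?_)
  rintro _ ⟨_, ⟨x, hx, rfl⟩, rfl⟩
  exact ⟨⟨h, hh⟩ * x * ⟨h, hh⟩⁻¹, Normal.conj_mem inferInstance x hx _, rfl⟩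

theorem le_core {p : ℕ} {H R : Subgroup G} (hRH : R ≤ H) (hR : IsPGroup p R)
    (hn : H ≤ normalizer (R : Set G)) : R ≤ core p H := by
  haveI : (R.subgroupOf H).Normal := (normal_subgroupOf_iff_le_normalizer hRH).2 hn
  rw [← map_subgroupOf_eq_of_le hRH]
  exact map_mono (CfsgLib.Coprime.le_pCore (hR.of_equiv (subgroupOfEquivOfLe hRH).symm))

namespace Ctx

variable {p b : ℕ} [hp : Fact p.Prime] {Q : Sylow 2 G} {y : G} (X : Ctx G p b Q y)
include X

/-- A `p`-element normalizing `Q` centralizes it or is transitive on its involutions. -/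
theorem fix_or_trans {z : G} (hz : z ∈ normalizer ((Q : Subgroup G) : Set G))
    (hzp : ∃ k, z ^ p ^ k = 1) :
    z ∈ centralizer ((Q : Subgroup G) : Set G) ∨
      ∀ t ∈ (Q : Subgroup G), t ≠ 1 → ∀ v ∈ (Q : Subgroup G), v ≠ 1 →
        ∃ i : ℤ, z ^ i * t * (z ^ i)⁻¹ = v := by
  classical
  set T : Subgroup G := (Q : Subgroup G)
  letI : MulAction (zpowers z) T :=
    { smul := fun m x => ⟨(m : G) * x * (m : G)⁻¹,
        (mem_normalizer_iff.1 (zpowers_le.2 hz m.2) x).1 x.2⟩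
      one_smul := fun x => Subtype.ext (by show (1 : G) * (x : G) * (1 : G)⁻¹ = x; group)
      mul_smul := fun m m' x => Subtype.ext (by
        show (m : G) * m' * x * ((m : G) * m')⁻¹ = m * (m' * x * (m' : G)⁻¹) * (m : G)⁻¹
        group) }
  haveI := Fintype.ofFinite T
  have hne : ∀ x : T, x ≠ 1 → ∀ m : zpowers z, m • x ≠ 1 := fun x hx m h => hx (by
    have h1 : (m : G) * x * (m : G)⁻¹ = 1 := congrArg Subtype.val h
    exact Subtype.ext (conj_eq_one_iff.1 h1))
  have hcompl : Nat.card {x : T // x ≠ 1} = p := by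
    have h := X.cardQ
    rw [Nat.card_eq_fintype_card] at h
    rw [Nat.card_eq_fintype_card, Fintype.card_subtype_compl, Fintype.card_subtype_eq, h,
      ← X.hpb, Nat.add_sub_cancel]
  have key : ∀ x : T, x ≠ 1 → (∀ m : zpowers z, m • x = x) ∨
      (∀ v : T, v ≠ 1 → v ∈ MulAction.orbit (zpowers z) x) := by
    intro x hx
    obtain ⟨n, hn⟩ := (isPGroup_zpowers hzp).card_orbit x
    let f : MulAction.orbit (zpowers z) x → {v : T // v ≠ 1} := fun o => ⟨o.1, by
      obtain ⟨m, hm⟩ := o.2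
      rw [← hm]
      exact hne x hx m⟩
    have hf : Function.Injective f := fun a c h => Subtype.ext (congrArg (fun v => v.1) h)
    rcases n with - | n
    · left
      intro m
      haveI := (Nat.card_eq_one_iff_unique.1 (hn.trans (pow_zero p))).1
      exact congrArg Subtype.val (Subsingleton.elim
        (⟨m • x, MulAction.mem_orbit x m⟩ : MulAction.orbit (zpowers z) x)
        ⟨x, MulAction.mem_orbit_self x⟩)
    · right
      intro v hv
      have hbij : Function.Bijective f := by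
        refine (Nat.bijective_iff_injective_and_card _).2 ⟨hf, le_antisymm
          (Nat.card_le_card_of_injective f hf) ?_⟩
        rw [hcompl, hn]
        exact Nat.le_self_pow (Nat.succ_ne_zero n) p
      obtain ⟨o, ho⟩ := hbij.2 ⟨v, hv⟩
      exact (congrArg (fun v => v.1) ho : (o : T) = v) ▸ o.2
  by_cases hall : ∀ t : T, t ≠ 1 → ∀ v : T, v ≠ 1 → v ∈ MulAction.orbit (zpowers z) t
  · right
    intro t ht ht1 v hv hv1
    obtain ⟨⟨m, hm⟩, hmv⟩ := hall ⟨t, ht⟩ (fun h => ht1 (congrArg Subtype.val h)) ⟨v, hv⟩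
      (fun h => hv1 (congrArg Subtype.val h))
    obtain ⟨i, rfl⟩ := mem_zpowers_iff.1 hm
    exact ⟨i, congrArg Subtype.val hmv⟩
  · left
    push Not at hall
    obtain ⟨t, ht, v₀, hv₀, hnot⟩ := hall
    have hfix : ∀ m : zpowers z, m • t = t := (key t ht).resolve_right fun h => hnot (h v₀ hv₀)
    refine mem_centralizer_iff.2 fun q hq => ?_
    by_cases hq1 : q = 1
    · rw [hq1, one_mul, mul_one]
    have hfq : ∀ m : zpowers z, m • (⟨q, hq⟩ : T) = ⟨q, hq⟩ := by
      rcases key ⟨q, hq⟩ (fun h => hq1 (congrArg Subtype.val h)) with h | h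
      · exact h
      obtain ⟨m, hm⟩ := h t ht
      rw [(inv_smul_eq_iff.2 hm.symm).symm.trans (hfix m⁻¹)]
      exact hfix
    have h1 : z * q * z⁻¹ = q := congrArg Subtype.val (hfq ⟨z, mem_zpowers z⟩)
    exact (mul_inv_eq_iff_eq_mul.1 h1).symm

theorem y_trans : ∀ t ∈ (Q : Subgroup G), t ≠ 1 → ∀ v ∈ (Q : Subgroup G), v ≠ 1 →
    ∃ i : ℤ, y ^ i * t * (y ^ i)⁻¹ = v :=
  (X.fix_or_trans X.yN X.yp).resolve_left X.ync

theorem exists_two : ∃ t ∈ (Q : Subgroup G), orderOf t = 2 := by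
  obtain ⟨t, ht⟩ := exists_prime_orderOf_dvd_card' (G := (Q : Subgroup G)) 2
    (by rw [X.cardQ]; exact dvd_pow_self 2 (by have := X.hb; omega))
  exact ⟨t, t.2, by rwa [Subgroup.orderOf_coe]⟩

theorem sqQ {q : G} (hq : q ∈ (Q : Subgroup G)) : q * q = 1 := by
  by_cases hq1 : q = 1
  · rw [hq1, one_mul]
  obtain ⟨t, ht, ht2⟩ := X.exists_two
  obtain ⟨i, hi⟩ := X.y_trans t ht (fun h => by simp [h] at ht2) q hq hq1
  have h2 : t * t = 1 := by rw [← pow_two, ← ht2, pow_orderOf_eq_one]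
  rw [← hi, show y ^ i * t * (y ^ i)⁻¹ * (y ^ i * t * (y ^ i)⁻¹) = y ^ i * (t * t) * (y ^ i)⁻¹
    by group, h2, mul_one, mul_inv_cancel]

theorem commQ {a c : G} (ha : a ∈ (Q : Subgroup G)) (hc : c ∈ (Q : Subgroup G)) :
    a * c = c * a := by
  calc a * c = a * c * ((c * a) * (c * a)) := by rw [X.sqQ (mul_mem hc ha), mul_one]
    _ = a * (c * c) * a * (c * a) := by group
    _ = c * a := by rw [X.sqQ hc, mul_one, X.sqQ ha, one_mul]

theorem le_centralizer_Q : (Q : Subgroup G) ≤ centralizer ((Q : Subgroup G) : Set G) :=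
  fun _ ha => mem_centralizer_iff.2 fun _ hc => X.commQ hc ha

theorem two_dvd_of_le {H : Subgroup G} (h : (Q : Subgroup G) ≤ H) : 2 ∣ Nat.card H :=
  ((dvd_pow_self 2 (by have := X.hb; omega)).trans X.cardQ.symm.dvd).trans (card_dvd_of_le h)

theorem Q_ne_bot : (Q : Subgroup G) ≠ ⊥ := fun h => by
  have h1 := X.two_dvd_of_le h.le
  rw [card_bot] at h1
  omega

theorem center_eq_bot : Subgroup.center G = ⊥ := by
  haveI := X.simple
  rcases (inferInstance : (Subgroup.center G).Normal).eq_bot_or_eq_top with h | h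
  · exact h
  · obtain ⟨a, c, hac⟩ := X.nonab
    exact absurd (mem_center_iff.1 (h.ge (mem_top c)) a) hac

theorem centralizer_ne_top {x : G} (hx : x ≠ 1) : centralizer ({x} : Set G) ≠ ⊤ := fun h => by
  refine hx (mem_bot.1 (X.center_eq_bot.le (mem_center_iff.2 fun g => ?_)))
  exact mem_centralizer_singleton_iff.1 (h.ge (mem_top g))

theorem normalizer_ne_top {K : Subgroup G} (h1 : K ≠ ⊥) (h2 : K ≠ ⊤) :
    normalizer (K : Set G) ≠ ⊤ := fun h => by
  haveI := X.simple
  haveI : K.Normal := normalizer_eq_top_iff.1 h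
  rcases (inferInstance : K.Normal).eq_bot_or_eq_top with e | e
  · exact h1 e
  · exact h2 e

theorem ne_top_of_isPGroup {R : Subgroup G} (hR : IsPGroup p R) : R ≠ ⊤ := fun h => by
  obtain ⟨t, -, ht2⟩ := X.exists_two
  have h1 := eq_one_of_two_pow_of_ppow X.hp2 ⟨1, by rw [pow_one, ← ht2, pow_orderOf_eq_one]⟩
    (exists_pow_of_isPGroup hR (h.ge (mem_top t)))
  rw [h1, orderOf_one] at ht2
  exact absurd ht2 (by norm_num)

theorem normalizer_ne_top_of_isPGroup {R : Subgroup G} (hR : IsPGroup p R) (h1 : R ≠ ⊥) :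
    normalizer (R : Set G) ≠ ⊤ :=
  X.normalizer_ne_top h1 (X.ne_top_of_isPGroup hR)

theorem comm_of_isPGroup {R : Subgroup G} (hR : IsPGroup p R) {a c : G} (ha : a ∈ R) (hc : c ∈ R) :
    a * c = c * a := by
  obtain ⟨P, hP⟩ := hR.exists_le_sylow
  exact congrArg Subtype.val ((X.ab P).is_comm.comm (⟨a, hP ha⟩ : (P : Subgroup G)) ⟨c, hP hc⟩)

/-- A `p`-element normalizing a `p`-subgroup centralizes it. -/
theorem ppow_mem_centralizer {R : Subgroup G} (hR : IsPGroup p R) {z : G}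
    (hz : z ∈ normalizer (R : Set G)) (hzp : ∃ k, z ^ p ^ k = 1) :
    z ∈ centralizer (R : Set G) :=
  mem_centralizer_iff.2 fun _ hr => X.comm_of_isPGroup
    ((isPGroup_zpowers hzp).to_sup_of_normal_right' hR (zpowers_le.2 hz))
    (mem_sup_right hr) (mem_sup_left (mem_zpowers z))

theorem inv_conj {u : G} (hu : orderOf u = 2) : ∃ g : G, g * u * g⁻¹ ∈ (Q : Subgroup G) := by
  obtain ⟨S, hS⟩ := (isPGroup_zpowers (p := 2)
    ⟨1, by rw [pow_one, ← hu, pow_orderOf_eq_one]⟩).exists_le_sylow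
  obtain ⟨g, hg⟩ := MulAction.exists_smul_eq G S Q
  refine ⟨g, ?_⟩
  rw [← hg]
  exact ⟨u, hS (mem_zpowers u), rfl⟩

theorem two_mem {x : G} (hx : x ∈ normalizer ((Q : Subgroup G) : Set G))
    (h2 : ∃ k, x ^ 2 ^ k = 1) : x ∈ (Q : Subgroup G) :=
  (Q.is_maximal' ((isPGroup_zpowers h2).to_sup_of_normal_right' Q.2 (zpowers_le.2 hx))
    le_sup_right).le (mem_sup_left (mem_zpowers x))

theorem normalizer_le_centralizer {H : Subgroup G} (hH : H ≠ ⊤) (h2 : 2 ∣ Nat.card H)
    (hz : ∀ z ∈ H, z ∈ normalizer ((Q : Subgroup G) : Set G) → (∃ k, z ^ p ^ k = 1) →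
      z ∈ centralizer ((Q : Subgroup G) : Set G)) :
    H ⊓ normalizer ((Q : Subgroup G) : Set G) ≤ centralizer ((Q : Subgroup G) : Set G) := by
  refine CfsgLib.Fusion.le_of_forall_prime_pow fun s hs x hx hk => ?_
  by_cases hx1 : x = 1
  · rw [hx1]; exact one_mem _
  have hd : s ∣ Nat.card H := by
    obtain ⟨k, hk⟩ := hk
    obtain ⟨j, -, hj⟩ := (Nat.dvd_prime_pow hs).1 (orderOf_dvd_of_pow_eq_one hk)
    have hj0 : j ≠ 0 := fun h0 => hx1 (orderOf_eq_one_iff.1 (by rw [hj, h0, pow_zero]))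
    exact (dvd_pow_self s hj0).trans (hj ▸ orderOf_dvd_natCard H hx.1)
  rcases X.two H hH h2 s hs hd with rfl | rfl
  · exact hz x hx.1 hx.2 hk
  · exact X.le_centralizer_Q (X.two_mem hx.2 hk)

theorem isPGroup_of_odd {H : Subgroup G} (hH : H ≠ ⊤) {K : Subgroup G} (hKH : K ≤ H)
    (h2 : 2 ∣ Nat.card H) (hodd : ¬ 2 ∣ Nat.card K) : IsPGroup p K := by
  refine IsPGroup.of_card (n := (Nat.card K).primeFactorsList.length)
    (Nat.eq_prime_pow_of_unique_prime_dvd Nat.card_pos.ne' fun {d} hd hdK => ?_)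
  rcases X.two H hH h2 d hd (hdK.trans (card_dvd_of_le hKH)) with h | rfl
  · exact h
  · exact absurd hdK hodd

theorem card_dvd {H : Subgroup G} (hH : H ≠ ⊤) (h2 : 2 ∣ Nat.card H) (P : Sylow p G) :
    Nat.card H ∣ 2 ^ b * Nat.card (P : Subgroup G) := by
  refine (Nat.dvd_iff_prime_pow_dvd_dvd _ _).2 fun s k hs hk => ?_
  rcases Nat.eq_zero_or_pos k with rfl | hk0
  · simp
  have hG := hk.trans (card_subgroup_dvd_card H)
  rcases X.two H hH h2 s hs ((dvd_pow_self s hk0.ne').trans hk) with rfl | rfl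
  · exact (P.pow_dvd_card_of_pow_dvd_card hG).trans (dvd_mul_left _ _)
  · exact ((Q.pow_dvd_card_of_pow_dvd_card hG).trans X.cardQ.dvd).trans (dvd_mul_right _ _)

/-- Centralizers of involutions have normal `2`-complements. -/
theorem exists_oz {t : G} (ht : t ∈ (Q : Subgroup G)) (ht1 : t ≠ 1) :
    ∃ O : Subgroup G, IsPGroup p O ∧ (∀ g, g ∈ O ↔ Commute g t ∧ ∃ k, g ^ p ^ k = 1) ∧
      centralizer ({t} : Set G) ≤ O ⊔ (Q : Subgroup G) := by
  set C := centralizer ({t} : Set G) with hC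
  have hQC : (Q : Subgroup G) ≤ C := fun q hq => mem_centralizer_singleton_iff.2 (X.commQ hq ht)
  have hCne := X.centralizer_ne_top ht1
  have hN : C ⊓ normalizer ((Q : Subgroup G) : Set G) ≤ centralizer ((Q : Subgroup G) : Set G) :=
    X.normalizer_le_centralizer hCne (X.two_dvd_of_le hQC) fun z hz hzN hzp => by
      refine (X.fix_or_trans hzN hzp).resolve_right fun htr => ?_
      have hall : ∀ v ∈ (Q : Subgroup G), v = 1 ∨ v = t := fun v hv => by
        by_cases hv1 : v = 1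
        · exact Or.inl hv1
        obtain ⟨i, hi⟩ := htr t ht ht1 v hv hv1
        refine Or.inr ?_
        rw [← hi, ((show Commute z t from (mem_centralizer_singleton_iff.1 hz)).zpow_left i).eq,
          mul_inv_cancel_right]
      have hle : Nat.card (Q : Subgroup G) ≤ 2 := by
        classical
        haveI := Fintype.ofFinite (Q : Subgroup G)
        rw [Nat.card_eq_fintype_card, ← Finset.card_univ]
        refine (Finset.card_le_card (fun v _ => ?_ : Finset.univ ⊆
          ({1, ⟨t, ht⟩} : Finset (Q : Subgroup G)))).trans Finset.card_le_two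
        rcases hall v v.2 with h | h
        · simp [Subtype.ext_iff, h]
        · simp [Subtype.ext_iff, h]
      rw [X.cardQ] at hle
      have := Nat.pow_le_pow_right (show 2 > 0 by norm_num) X.hb
      omega
  set R := Q.subtype hQC
  have hnorm : normalizer ((R : Subgroup C) : Set C) ≤ centralizer ((R : Subgroup C) : Set C) := by
    intro g hg
    refine mem_centralizer_iff.2 fun q hq => Subtype.ext ?_
    have hgN : (g : G) ∈ C ⊓ normalizer ((Q : Subgroup G) : Set G) := by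
      refine ⟨g.2, mem_normalizer_iff.2 fun x => ?_⟩
      constructor
      · intro hx
        exact ((mem_normalizer_iff.1 hg ⟨x, hQC hx⟩).1 hx :)
      · intro hx
        have h1 : (g : G) * x * (g : G)⁻¹ ∈ C := hQC hx
        have h2 : x ∈ C := by
          have := mul_mem (mul_mem (inv_mem g.2) h1) g.2
          rwa [show (g : G)⁻¹ * ((g : G) * x * (g : G)⁻¹) * g = x by group] at this
        exact ((mem_normalizer_iff.1 hg ⟨x, h2⟩).2 hx :)
    exact mem_centralizer_iff.1 (hN hgN) (q : G) hq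
  have hcompl := CfsgLib.Fusion.hasNormalPComplement_of_normalizer_le_centralizer R hnorm
  set O₀ := Cfsg.pResidual 2 C
  have hodd := CfsgLib.Fusion.hasNormalPComplement_iff_not_dvd.1 hcompl
  have hOp : IsPGroup p (O₀.map C.subtype) :=
    X.isPGroup_of_odd hCne (map_subtype_le _) (X.two_dvd_of_le hQC)
      (by rwa [card_map_of_injective C.subtype_injective])
  refine ⟨O₀.map C.subtype, hOp, fun g => ⟨fun hg => ⟨mem_centralizer_singleton_iff.1
    (map_subtype_le _ hg), exists_pow_of_isPGroup hOp hg⟩, ?_⟩, ?_⟩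
  · rintro ⟨hgt, k, hk⟩
    refine ⟨⟨g, mem_centralizer_singleton_iff.2 hgt.eq⟩, CfsgLib.Fusion.mem_pResidual ?_, rfl⟩
    rw [Subgroup.orderOf_mk]
    exact Nat.Coprime.coprime_dvd_left (orderOf_dvd_of_pow_eq_one hk)
      (((Nat.coprime_primes hp.out Nat.prime_two).2 X.hp2).pow_left k)
  · have h := congrArg (Subgroup.map C.subtype) (CfsgLib.Fusion.pResidual_sup_sylow R)
    rw [Subgroup.map_sup, ← MonoidHom.range_eq_map, range_subtype,
      show (R : Subgroup C).map C.subtype = (Q : Subgroup G) from map_subgroupOf_eq_of_le hQC] at h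
    exact h.ge

theorem mem_Oz {t : G} (ht : t ∈ (Q : Subgroup G)) (ht1 : t ≠ 1) {g : G} :
    g ∈ Oz p t ↔ Commute g t ∧ ∃ k, g ^ p ^ k = 1 := by
  obtain ⟨O, -, hO, -⟩ := X.exists_oz ht ht1
  have h : Oz p t = O := by
    refine le_antisymm ((closure_le _).2 fun x hx => (hO x).2 hx) fun x hx => subset_closure ?_
    exact (hO x).1 hx
  rw [h]
  exact hO g

theorem Oz_isPGroup {t : G} (ht : t ∈ (Q : Subgroup G)) (ht1 : t ≠ 1) : IsPGroup p (Oz p t) := by
  intro g
  obtain ⟨k, hk⟩ := ((X.mem_Oz ht ht1).1 g.2).2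
  exact ⟨k, Subtype.ext hk⟩

theorem centralizer_le_Oz_sup {t : G} (ht : t ∈ (Q : Subgroup G)) (ht1 : t ≠ 1) :
    centralizer ({t} : Set G) ≤ Oz p t ⊔ (Q : Subgroup G) := by
  obtain ⟨O, -, hO, hle⟩ := X.exists_oz ht ht1
  exact hle.trans (sup_le (le_sup_of_le_left fun x hx => subset_closure ((hO x).1 hx)) le_sup_right)

theorem conj_mem_Oz {t g d : G} (ht : t ∈ (Q : Subgroup G)) (ht1 : t ≠ 1)
    (hgt : g * t * g⁻¹ ∈ (Q : Subgroup G)) (hd : d ∈ Oz p t) :
    g * d * g⁻¹ ∈ Oz p (g * t * g⁻¹) := by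
  obtain ⟨hdt, k, hk⟩ := (X.mem_Oz ht ht1).1 hd
  refine (X.mem_Oz hgt (fun h => ht1 (conj_eq_one_iff.1 h))).2 ⟨?_, k, ?_⟩
  · show g * d * g⁻¹ * (g * t * g⁻¹) = g * t * g⁻¹ * (g * d * g⁻¹)
    calc g * d * g⁻¹ * (g * t * g⁻¹) = g * (d * t) * g⁻¹ := by group
      _ = g * (t * d) * g⁻¹ := by rw [hdt.eq]
      _ = g * t * g⁻¹ * (g * d * g⁻¹) := by group
  · rw [conj_pow, hk, mul_one, mul_inv_cancel]

theorem Q_le_normalizer_Oz {t : G} (ht : t ∈ (Q : Subgroup G)) (ht1 : t ≠ 1) :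
    (Q : Subgroup G) ≤ normalizer (Oz p t : Set G) := fun q hq => by
  refine CfsgLib.Fusion.conjBy_eq_iff.1 (CfsgLib.Fusion.conjBy_eq_of_le ?_)
  rintro _ ⟨d, hd, rfl⟩
  have e : q * t * q⁻¹ = t := by rw [X.commQ hq ht, mul_inv_cancel_right]
  have := X.conj_mem_Oz ht ht1 (g := q) (by rw [e]; exact ht) hd
  rwa [e] at this

/-- The structure of proper subgroups containing `Q`. -/
theorem dich {H : Subgroup G} (hH : H ≠ ⊤) (hQH : (Q : Subgroup G) ≤ H) :
    (∀ R ≤ H, IsPGroup p R → R ≤ core p H) ∨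
      (core p H ≤ centralizer ((Q : Subgroup G) : Set G) ∧
        H ≤ core p H ⊔ (H ⊓ normalizer ((Q : Subgroup G) : Set G)) ∧
        ∀ R ≤ H, IsPGroup p R → (Q : Subgroup G) ≤ normalizer (R : Set G) →
          R ≤ centralizer ((Q : Subgroup G) : Set G)) := by
  have h2 := X.two_dvd_of_le hQH
  haveI : Group.IsSolvable H := by
    refine CfsgLib.Char.isSolvable_of_card_two_primes Nat.prime_two hp.out H
      ((Nat.card H).factorization 2) ((Nat.card H).factorization p) ?_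
    refine Nat.eq_of_factorization_eq Nat.card_pos.ne'
      (mul_ne_zero (pow_ne_zero _ two_ne_zero) (pow_ne_zero _ hp.out.ne_zero)) fun s => ?_
    rw [Nat.factorization_mul (pow_ne_zero _ two_ne_zero) (pow_ne_zero _ hp.out.ne_zero),
      Nat.prime_two.factorization_pow, hp.out.factorization_pow, Finsupp.add_apply]
    by_cases hs : s.Prime
    · by_cases hd : s ∣ Nat.card H
      · rcases X.two H hH h2 s hs hd with rfl | rfl
        · simp [X.hp2, Ne.symm X.hp2]
        · simp [X.hp2, Ne.symm X.hp2]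
      · have h1 : s ≠ 2 := fun e => hd (e ▸ h2)
        rw [Nat.factorization_eq_zero_of_not_dvd hd]
        rcases eq_or_ne s p with rfl | hsp
        · simp [h1.symm, Nat.factorization_eq_zero_of_not_dvd hd]
        · simp [h1.symm, hsp.symm]
    · rw [Nat.factorization_eq_zero_of_not_prime _ hs]
      have h1 : (2 : ℕ) ≠ s := fun e => hs (e ▸ Nat.prime_two)
      have h2' : p ≠ s := fun e => hs (e ▸ hp.out)
      simp [h1, h2']
  set X₀ := Cfsg.pCore p H with hX₀
  haveI := CfsgLib.Coprime.pCore_normal' (G := H) p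
  set π := QuotientGroup.mk' X₀ with hπ
  have hπs := QuotientGroup.mk'_surjective X₀
  haveI : Group.IsSolvable (H ⧸ X₀) := Group.isSolvable_of_surjective hπs
  set R₂ := Q.subtype hQH with hR₂
  set Q₁ := (R₂.mapSurjective hπs : Sylow 2 (H ⧸ X₀)) with hQ₁
  have hQc : ∀ a ∈ (Q₁ : Subgroup (H ⧸ X₀)), ∀ c ∈ (Q₁ : Subgroup (H ⧸ X₀)), a * c = c * a := by
    intro a ha c hc
    rw [hQ₁, Sylow.coe_mapSurjective] at ha hc
    obtain ⟨a, ha, rfl⟩ := ha
    obtain ⟨c, hc, rfl⟩ := hc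
    rw [← map_mul, ← map_mul]
    exact congrArg π (Subtype.ext (X.commQ ha hc))
  have hO : Cfsg.pPrimeCore 2 (H ⧸ X₀) = ⊥ := by
    haveI := CfsgLib.Coprime.pPrimeCore_characteristic (G := H ⧸ X₀) 2
    refine le_bot_iff.1 (le_trans ?_ (CfsgLib.Coprime.pCore_quotient_eq_bot (G := H) p).le)
    refine CfsgLib.Coprime.le_pCore ?_
    refine IsPGroup.of_card (n := (Nat.card (Cfsg.pPrimeCore 2 (H ⧸ X₀))).primeFactorsList.length)
      (Nat.eq_prime_pow_of_unique_prime_dvd Nat.card_pos.ne' fun {d} hd hdK => ?_)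
    rcases X.two H hH h2 d hd (hdK.trans ((card_subgroup_dvd_card _).trans
      (card_quotient_dvd_card X₀))) with h | rfl
    · exact h
    · exact absurd hdK (CfsgLib.Coprime.pPrimeCore_not_dvd Nat.prime_two)
  set O₂ := Cfsg.pCore 2 (H ⧸ X₀) with hO₂
  haveI := CfsgLib.Coprime.pCore_normal' (G := H ⧸ X₀) 2
  have hO₂Q : O₂ ≤ (Q₁ : Subgroup (H ⧸ X₀)) := CfsgLib.Coprime.pCore_le_sylow Q₁
  have hcO : centralizer (O₂ : Set (H ⧸ X₀)) ≤ O₂ := CfsgLib.Coprime.centralizer_pCore_le hO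
  have hQO : (Q₁ : Subgroup (H ⧸ X₀)) = O₂ := le_antisymm (fun a ha => hcO
    (mem_centralizer_iff.2 fun c hc => hQc c (hO₂Q hc) a ha)) hO₂Q
  set M := O₂.comap π with hM
  haveI : M.Normal := Normal.comap inferInstance _
  have hRM : (R₂ : Subgroup H) ≤ M := by
    rw [hM, ← map_le_iff_le_comap, ← hQO, hQ₁, Sylow.coe_mapSurjective]
  have hfr : normalizer ((R₂ : Subgroup H) : Set H) ⊔ M = ⊤ :=
    Sylow.normalizer_sup_eq_top' R₂ hRM
  have hnR : ∀ g : H, g ∈ normalizer ((R₂ : Subgroup H) : Set H) →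
      (g : G) ∈ H ⊓ normalizer ((Q : Subgroup G) : Set G) := by
    intro g hg
    refine ⟨g.2, CfsgLib.Fusion.conjBy_eq_iff.1 (CfsgLib.Fusion.conjBy_eq_of_le ?_)⟩
    rintro _ ⟨x, hx, rfl⟩
    exact ((mem_normalizer_iff.1 hg ⟨x, hQH hx⟩).1 hx :)
  have hMX : M ≤ X₀ ⊔ (R₂ : Subgroup H) := by
    rw [hM, ← hQO, hQ₁, Sylow.coe_mapSurjective, comap_map_eq, hπ, QuotientGroup.ker_mk', sup_comm]
  have hpM : ∀ d : H, d ∈ M → (∃ k, d ^ p ^ k = 1) → d ∈ X₀ := fun d hd ⟨k, hk⟩ => by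
    refine (QuotientGroup.eq_one_iff d).1 (eq_one_of_two_pow_of_ppow X.hp2
      (exists_pow_of_isPGroup (CfsgLib.Coprime.pCore_isPGroup 2) (R := O₂) hd) ⟨k, ?_⟩)
    show π d ^ p ^ k = 1
    rw [← map_pow, hk, map_one]
  by_cases hcase : ∀ z ∈ H, z ∈ normalizer ((Q : Subgroup G) : Set G) → (∃ k, z ^ p ^ k = 1) →
      z ∈ centralizer ((Q : Subgroup G) : Set G)
  · left
    have hN := X.normalizer_le_centralizer hH h2 hcase
    have htop : (⊤ : Subgroup (H ⧸ X₀)) ≤ O₂ := by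
      rw [← map_top_of_surjective π hπs, ← hfr, Subgroup.map_sup]
      refine sup_le (map_le_iff_le_comap.2 fun g hg => hcO ?_) (map_comap_le _ _)
      refine mem_centralizer_iff.2 fun c hc => ?_
      rw [← hQO, hQ₁, Sylow.coe_mapSurjective] at hc
      obtain ⟨q, hq, rfl⟩ := hc
      rw [← map_mul, ← map_mul]
      exact congrArg π (Subtype.ext (mem_centralizer_iff.1 (hN (hnR g hg)) q hq))
    intro R hR hRp d hd
    refine ⟨⟨d, hR hd⟩, hpM _ (htop (mem_top _)) ?_, rfl⟩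
    obtain ⟨k, hk⟩ := exists_pow_of_isPGroup hRp hd
    exact ⟨k, Subtype.ext hk⟩
  right
  push Not at hcase
  obtain ⟨z, hzH, hzN, hzp, hzC⟩ := hcase
  have htr := (X.fix_or_trans hzN hzp).resolve_left hzC
  set Xc := core p H with hXc
  have hzX : z ∈ centralizer (Xc : Set G) :=
    X.ppow_mem_centralizer (core_isPGroup p H) (le_normalizer_core p H hzH) hzp
  have hXQ : Xc ≤ centralizer ((Q : Subgroup G) : Set G) := by
    rw [le_centralizer_iff]
    -- commutators with `z` are onto `Q`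
    have hzn : ∀ q ∈ (Q : Subgroup G), z * q * z⁻¹ ∈ (Q : Subgroup G) := fun q hq =>
      (mem_normalizer_iff.1 hzN q).1 hq
    let φ : ↥(Q : Subgroup G) → ↥(Q : Subgroup G) := fun q =>
      ⟨q * (z * q * z⁻¹), mul_mem q.2 (hzn q q.2)⟩
    have hφ : Function.Injective φ := by
      intro a c h
      have h' : (a : G) * (z * a * z⁻¹) = c * (z * c * z⁻¹) := congrArg Subtype.val h
      by_contra hne
      set d := (a : G) * c
      have hd1 : d ≠ 1 := fun e => hne (Subtype.ext (by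
        rw [← mul_one (a : G), ← X.sqQ c.2, ← mul_assoc]
        show d * c = c
        rw [e, one_mul]))
      have hd : z * d * z⁻¹ = d := by
        have ha := X.sqQ a.2
        calc z * d * z⁻¹ = (z * a * z⁻¹) * (z * c * z⁻¹) := by simp only [d]; group
          _ = ((a : G) * a) * (z * a * z⁻¹) * (z * c * z⁻¹) := by rw [ha, one_mul]
          _ = a * ((a : G) * (z * a * z⁻¹)) * (z * c * z⁻¹) := by group
          _ = a * (c * (z * c * z⁻¹)) * (z * c * z⁻¹) := by rw [h']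
          _ = d * ((z * c * z⁻¹) * (z * c * z⁻¹)) := by simp only [d]; group
          _ = d := by rw [X.sqQ (hzn c c.2), mul_one]
      refine hzC (mem_centralizer_iff.2 fun q hq => ?_)
      by_cases hq1 : q = 1
      · rw [hq1, one_mul, mul_one]
      obtain ⟨i, hi⟩ := htr d (mul_mem a.2 c.2) hd1 q hq hq1
      have hcd : Commute z d := mul_inv_eq_iff_eq_mul.1 hd
      rw [(hcd.zpow_left i).eq, mul_inv_cancel_right] at hi
      exact hi ▸ hcd.eq.symm
    intro q hq
    obtain ⟨a, ha⟩ := (Finite.injective_iff_surjective.1 hφ) ⟨q, hq⟩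
    have hq' : (a : G) * (z * a * z⁻¹) = q := congrArg Subtype.val ha
    have hnc : normalizer (Xc : Set G) ≤ normalizer (centralizer (Xc : Set G) : Set G) :=
      CfsgLib.Coprime.normalizer_le_normalizer_centralizer Xc
    rw [← hq', show (a : G) * (z * a * z⁻¹) = (a * z * (a : G)⁻¹) * ((a : G) * a) * z⁻¹ by group,
      X.sqQ a.2, mul_one]
    exact mul_mem ((mem_normalizer_iff.1 (hnc (le_normalizer_core p H (hQH a.2))) z).1 hzX)
      (inv_mem hzX)
  refine ⟨hXQ, ?_, ?_⟩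
  · have h1 : (⊤ : Subgroup H) ≤ X₀ ⊔ normalizer ((R₂ : Subgroup H) : Set H) :=
      hfr.ge.trans (sup_le le_sup_right (hMX.trans (sup_le_sup_left le_normalizer _)))
    have h2 := map_mono (f := H.subtype) h1
    rw [← MonoidHom.range_eq_map, range_subtype, Subgroup.map_sup] at h2
    refine h2.trans (sup_le_sup_left ?_ _)
    rintro _ ⟨g, hg, rfl⟩
    exact hnR g hg
  · intro R hR hRp hQR d hd
    refine mem_centralizer_iff.2 fun q hq => ?_
    set c := q * d * q⁻¹ * d⁻¹ with hc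
    have hcR : c ∈ R := mul_mem ((mem_normalizer_iff.1 (hQR hq) d).1 hd) (inv_mem hd)
    have hcX : c ∈ Xc := by
      refine ⟨⟨c, hR hcR⟩, hpM _ ?_ ?_, rfl⟩
      · have h1 : (⟨q, hQH hq⟩ : H) ∈ M := hRM hq
        have h2 := mul_mem h1 (Normal.conj_mem inferInstance _ (inv_mem h1) (⟨d, hR hd⟩ : H))
        convert h2 using 1
        exact Subtype.ext (by simp only [hc, Subgroup.coe_mul, Subgroup.coe_inv]; group)
      · obtain ⟨k, hk⟩ := exists_pow_of_isPGroup hRp hcR
        exact ⟨k, Subtype.ext hk⟩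
    have hcq : q * c = c * q := mem_centralizer_iff.1 (hXQ hcX) q hq
    have hc2 : c ^ 2 = 1 := by
      have h1 : q * (c * d) * q⁻¹ = d := by
        rw [hc, show q * (q * d * q⁻¹ * d⁻¹ * d) * q⁻¹ = (q * q) * d * (q * q)⁻¹ by group,
          X.sqQ hq]
        group
      calc c ^ 2 = c * (c * d) * d⁻¹ := by rw [pow_two]; group
        _ = c * (q * d * q⁻¹) * d⁻¹ := by rw [show c * d = q * d * q⁻¹ by rw [hc]; group]
        _ = (q * c * q⁻¹) * (q * d * q⁻¹) * d⁻¹ := by rw [hcq, mul_inv_cancel_right]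
        _ = (q * (c * d) * q⁻¹) * d⁻¹ := by group
        _ = 1 := by rw [h1, mul_inv_cancel]
    have hc1 : c = 1 := eq_one_of_two_pow_of_ppow X.hp2 ⟨1, by rw [pow_one]; exact hc2⟩
      (exists_pow_of_isPGroup hRp hcR)
    rw [hc, mul_inv_eq_one, mul_inv_eq_iff_eq_mul] at hc1
    exact hc1

end Ctx

end CfsgLib.LargePrimeMix
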