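import Cfsg.Agent.Lib.Invol.LargePrimeMix.Signalizer
import Cfsg.Agent.Lib.Invol.LargePrimeMix.Count
import Cfsg.Agent.Lib.Fusion.MaxFamily
import Cfsg.Agent.Lib.Fusion.Transfer
import Cfsg.Agent.Lib.Fusion.Abelian

/-!
# Odd cores centralizing the Sylow `2`-subgroup
-/

set_option autoImplicit false
set_option linter.style.haveILetI false
set_option linter.unusedSectionVars false

open Subgroup
open scoped commutatorElement

namespace CfsgLib.LargePrimeMix

universe u

variable {G : Type u} [Group G] [Finite G]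

namespace Ctx

variable {p b : ℕ} [hp : Fact p.Prime] {Q : Sylow 2 G} {y : G} (X : Ctx G p b Q y)
include X

theorem conj_map_Oz {t g : G} (ht : t ∈ (Q : Subgroup G)) (ht1 : t ≠ 1)
    (hgt : g * t * g⁻¹ ∈ (Q : Subgroup G)) :
    CfsgLib.Fusion.conjBy g (Oz p t) = Oz p (g * t * g⁻¹) := by
  refine le_antisymm ?_ fun d hd => ?_
  · rintro _ ⟨d, hd, rfl⟩
    exact X.conj_mem_Oz ht ht1 hgt hd
  · have h := X.conj_mem_Oz hgt (fun h => ht1 (conj_eq_one_iff.1 h)) (g := g⁻¹)
      (by rw [show g⁻¹ * (g * t * g⁻¹) * g⁻¹⁻¹ = t by group]; exact ht) hd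
    rw [show g⁻¹ * (g * t * g⁻¹) * g⁻¹⁻¹ = t by group] at h
    exact ⟨g⁻¹ * d * g⁻¹⁻¹, h, by show g * (g⁻¹ * d * g⁻¹⁻¹) * g⁻¹ = d; group⟩

/-- `Oz` centralizing `Q` does not depend on the involution. -/
theorem Oz_eq {t : G} (ht : t ∈ (Q : Subgroup G)) (ht1 : t ≠ 1)
    (hc : Oz p t ≤ centralizer ((Q : Subgroup G) : Set G)) {v : G} (hv : v ∈ (Q : Subgroup G))
    (hv1 : v ≠ 1) : Oz p v = Oz p t := by
  have hle : Oz p t ≤ Oz p v := fun d hd => (X.mem_Oz hv hv1).2
    ⟨(mem_centralizer_iff.1 (hc hd) v hv).symm, ((X.mem_Oz ht ht1).1 hd).2⟩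
  obtain ⟨i, hi⟩ := X.y_trans t ht ht1 v hv hv1
  refine (eq_of_le_of_card_ge hle ?_).symm
  rw [← hi, ← X.conj_map_Oz ht ht1 (by rw [hi]; exact hv), CfsgLib.Fusion.card_conjBy]

theorem false_of_centralize {t₀ : G} (ht₀ : t₀ ∈ (Q : Subgroup G)) (ht₀1 : t₀ ≠ 1)
    (hA1 : Oz p t₀ ≠ ⊥) (hAQ : Oz p t₀ ≤ centralizer ((Q : Subgroup G) : Set G)) : False := by
  classical
  set A := Oz p t₀ with hAdef
  have hAp : IsPGroup p A := X.Oz_isPGroup ht₀ ht₀1
  have hOA : ∀ v ∈ (Q : Subgroup G), v ≠ 1 → Oz p v = A := fun v hv hv1 =>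
    X.Oz_eq ht₀ ht₀1 hAQ hv hv1
  set M := normalizer (A : Set G) with hMdef
  have hM : M ≠ ⊤ := X.normalizer_ne_top_of_isPGroup hAp hA1
  have hNQM : normalizer ((Q : Subgroup G) : Set G) ≤ M := fun g hg => by
    refine CfsgLib.Fusion.conjBy_eq_iff.1 ?_
    have hgt := (mem_normalizer_iff.1 hg t₀).1 ht₀
    rw [hAdef, X.conj_map_Oz ht₀ ht₀1 hgt, hOA _ hgt (fun h => ht₀1 (conj_eq_one_iff.1 h))]
  have hQM : (Q : Subgroup G) ≤ M := X.Q_le_normalizer_Oz ht₀ ht₀1
  have hyA : y ∈ centralizer (A : Set G) := X.ppow_mem_centralizer hAp (hNQM X.yN) X.yp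
  -- proper subgroups containing `Q` and `y` lie in `M`
  have hsub : ∀ H : Subgroup G, H ≠ ⊤ → (Q : Subgroup G) ≤ H → y ∈ H →
      core p H ≤ A ∧ H ≤ core p H ⊔ (H ⊓ normalizer ((Q : Subgroup G) : Set G)) := by
    intro H hH hQH hyH
    rcases X.dich hH hQH with h | ⟨h1, h2, -⟩
    · exfalso
      refine X.ync (mem_centralizer_iff.2 fun q hq => ?_)
      have hyc : y ∈ core p H := h _ (zpowers_le.2 hyH) (isPGroup_zpowers X.yp) (mem_zpowers y)
      set c := y * q * y⁻¹ * q⁻¹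
      have h1 : c ∈ core p H := by
        rw [show c = y * (q * y⁻¹ * q⁻¹) by simp only [c]; group]
        exact mul_mem hyc ((mem_normalizer_iff.1 (le_normalizer_core p H (hQH hq)) _).1 (inv_mem hyc))
      have h2 : c ∈ (Q : Subgroup G) :=
        mul_mem ((mem_normalizer_iff.1 X.yN q).1 hq) (inv_mem hq)
      have h3 : c = 1 := eq_one_of_two_pow_of_ppow X.hp2 (exists_pow_of_isPGroup Q.2 h2)
        (exists_pow_of_isPGroup (core_isPGroup p H) h1)
      exact (mul_inv_eq_iff_eq_mul.1 (mul_inv_eq_one.1 h3)).symm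
    · exact ⟨fun d hd => (X.mem_Oz ht₀ ht₀1).2 ⟨(mem_centralizer_iff.1 (h1 hd) t₀ ht₀).symm,
        exists_pow_of_isPGroup (core_isPGroup p H) hd⟩, h2⟩
  have hCaM : ∀ a ∈ A, a ≠ 1 → centralizer ({a} : Set G) = M := by
    intro a ha ha1
    have hQC : (Q : Subgroup G) ≤ centralizer ({a} : Set G) := fun q hq =>
      mem_centralizer_singleton_iff.2 (mem_centralizer_iff.1 (hAQ ha) q hq)
    refine le_antisymm ?_ ?_
    · obtain ⟨h1, h2⟩ := hsub _ (X.centralizer_ne_top ha1) hQC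
        (mem_centralizer_singleton_iff.2 (mem_centralizer_iff.1 hyA a ha).symm)
      exact h2.trans (sup_le (h1.trans le_normalizer) (inf_le_right.trans hNQM))
    · obtain ⟨h1, h2⟩ := hsub M hM hQM (hNQM X.yN)
      refine h2.trans (sup_le (fun d hd => mem_centralizer_singleton_iff.2
        (X.comm_of_isPGroup hAp (h1 hd) ha)) ?_)
      refine CfsgLib.Fusion.le_of_forall_prime_pow fun s hs x hx hxk => ?_
      by_cases hx1 : x = 1
      · rw [hx1]; exact one_mem _
      have hd : s ∣ Nat.card M := by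
        obtain ⟨k, hk⟩ := hxk
        obtain ⟨j, -, hj⟩ := (Nat.dvd_prime_pow hs).1 (orderOf_dvd_of_pow_eq_one hk)
        have hj0 : j ≠ 0 := fun h0 => hx1 (orderOf_eq_one_iff.1 (by rw [hj, h0, pow_zero]))
        exact (dvd_pow_self s hj0).trans (hj ▸ orderOf_dvd_natCard M hx.1)
      rcases X.two M hM (X.two_dvd_of_le hQM) s hs hd with rfl | rfl
      · exact mem_centralizer_singleton_iff.2
          (mem_centralizer_iff.1 (X.ppow_mem_centralizer hAp hx.1 hxk) a ha).symm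
      · exact hQC (X.two_mem hx.2 hxk)
  -- elements of `A` are conjugate only trivially
  have hrigid : ∀ a ∈ A, a ≠ 1 → ∀ g : G, g * a * g⁻¹ ∈ A → g * a * g⁻¹ = a := by
    intro a ha ha1 g hga
    have hga1 : g * a * g⁻¹ ≠ 1 := fun h => ha1 (conj_eq_one_iff.1 h)
    have hgM : ∀ x ∈ M, g * x * g⁻¹ ∈ M := by
      intro x hx
      rw [← hCaM a ha ha1] at hx
      rw [← hCaM _ hga hga1]
      exact mem_centralizer_singleton_iff.2
        ((show Commute x a from mem_centralizer_singleton_iff.1 hx).map (MulAut.conj g)).eq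
    have hgQ : ((g • Q : Sylow 2 G) : Subgroup G) ≤ M := by
      rintro _ ⟨q, hq, rfl⟩
      exact hgM q (hQM hq)
    obtain ⟨m, hm⟩ := MulAction.exists_smul_eq M ((g • Q).subtype hgQ) (Q.subtype hQM)
    have hm' : ((m : G) * g) • Q = Q := by
      rw [mul_smul]
      exact Sylow.subtype_injective (hP := by
        rintro _ ⟨q, hq, rfl⟩
        exact mul_mem (mul_mem m.2 (hgQ hq)) (inv_mem m.2)) (hQ := hQM)
        ((Sylow.smul_subtype hgQ m).symm.trans hm)
    have hgM' : g ∈ M := by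
      have h := mul_mem (inv_mem m.2) (hNQM (Sylow.smul_eq_iff_mem_normalizer.1 hm'))
      rwa [inv_mul_cancel_left] at h
    rw [← hCaM a ha ha1] at hgM'
    rw [mem_centralizer_singleton_iff.1 hgM', mul_inv_cancel_right]
  have hnoreal : ∀ d : G, (∃ k, d ^ p ^ k = 1) → d ≠ 1 → ∀ s : G, s * d * s⁻¹ = d⁻¹ →
      ∀ z : G, orderOf z = 2 → ¬ Commute d z := by
    intro d hd hd1 s hsd z hz hdz
    obtain ⟨g, hgz, hgd⟩ := X.commute_conj hd hz hdz
    rw [hOA _ hgz (fun e => ne_one_of_orderOf_two hz (conj_eq_one_iff.1 e))] at hgd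
    have h1 : g * d * g⁻¹ ≠ 1 := fun h => hd1 (conj_eq_one_iff.1 h)
    have h2 : (g * s * g⁻¹) * (g * d * g⁻¹) * (g * s * g⁻¹)⁻¹ = (g * d * g⁻¹)⁻¹ := by
      rw [show (g * s * g⁻¹) * (g * d * g⁻¹) * (g * s * g⁻¹)⁻¹ = g * (s * d * s⁻¹) * g⁻¹ by group,
        hsd]
      group
    have h3 := hrigid _ hgd h1 (g * s * g⁻¹) (by rw [h2]; exact inv_mem hgd)
    rw [h2] at h3
    exact h1 (eq_one_of_inv_eq X.hp2 (exists_pow_of_isPGroup hAp hgd) h3)
  have hsupc : ∀ {t : G}, t ∈ (Q : Subgroup G) → t ≠ 1 → ∀ a ∈ centralizer ({t} : Set G),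
      ∀ c ∈ centralizer ({t} : Set G), a * c = c * a := by
    intro t ht ht1 a ha c hc
    have hle : centralizer ({t} : Set G) ≤ A ⊔ (Q : Subgroup G) :=
      hOA t ht ht1 ▸ X.centralizer_le_Oz_sup ht ht1
    have hab : A ⊔ (Q : Subgroup G) ≤
        centralizer ((A ⊔ (Q : Subgroup G) : Subgroup G) : Set G) := by
      rw [CfsgLib.Fusion.centralizer_sup_eq]
      exact sup_le (le_inf (fun x hx => mem_centralizer_iff.2 fun e he =>
        X.comm_of_isPGroup hAp he hx) hAQ) (le_inf (le_centralizer_iff.1 hAQ) X.le_centralizer_Q)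
    exact (mem_centralizer_iff.1 (hab (hle ha)) c (hle hc)).symm
  have hZ : ∀ s t z : G, orderOf s = 2 → orderOf t = 2 → orderOf z = 2 → Commute s z →
      Commute t z → Commute s t := by
    intro s t z _ _ hz hsz htz
    obtain ⟨g, hg⟩ := X.inv_conj hz
    have hg1 : g * z * g⁻¹ ≠ 1 := fun e => ne_one_of_orderOf_two hz (conj_eq_one_iff.1 e)
    exact (MulAut.conj g).injective (by
      rw [map_mul, map_mul]
      exact hsupc hg hg1 _ (mem_centralizer_singleton_iff.2 (hsz.map (MulAut.conj g)).eq) _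
        (mem_centralizer_singleton_iff.2 (htz.map (MulAut.conj g)).eq))
  obtain ⟨s, t, hs, ht, hst⟩ := X.exists_noncommuting
  obtain ⟨P, -, -, hsP, -, -⟩ := X.exists_inverted hZ
    (fun d hd hd1 s' _ hsd z hz => hnoreal d hd hd1 s' hsd z hz) hs ht hst
  set N := normalizer ((P : Subgroup G) : Set G) with hNdef
  have hNne : N ≠ ⊤ := X.normalizer_ne_top_of_isPGroup P.2 (X.sylow_ne_bot P)
  have h2N : 2 ∣ Nat.card N := hs ▸ orderOf_dvd_natCard N hsP
  -- an involution in `N` has no fixed points on `P`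
  have hfix : ∀ e ∈ (P : Subgroup G), Commute e s → e = 1 := by
    intro e he hes
    by_contra he1
    have hep := exists_pow_of_isPGroup P.2 he
    obtain ⟨E₀, hE₀⟩ := (((isPGroup_zpowers (p := 2) (x := s)
      ⟨1, by rw [pow_one, ← hs, pow_orderOf_eq_one]⟩).of_equiv
        (subgroupOfEquivOfLe (zpowers_le.2 hsP)).symm)).exists_le_sylow
    set E := (E₀ : Subgroup N).map N.subtype with hEdef
    have hsE : s ∈ E := ⟨⟨s, hsP⟩, hE₀ (show (⟨s, hsP⟩ : N) ∈ (zpowers s).subgroupOf N from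
      mem_zpowers s), rfl⟩
    have hEp : IsPGroup 2 E := E₀.2.map _
    obtain ⟨S, hS⟩ := hEp.exists_le_sylow
    obtain ⟨g, hg⟩ := MulAction.exists_smul_eq G S Q
    have hEcomm : ∀ a ∈ E, ∀ c ∈ E, a * c = c * a := fun a ha c hc =>
      (MulAut.conj g).injective (by
        rw [map_mul, map_mul]
        exact X.commQ (hg ▸ ⟨a, hS ha, rfl⟩) (hg ▸ ⟨c, hS hc, rfl⟩))
    obtain ⟨h, hhs, hhe⟩ := X.commute_conj hep hs hes
    rw [hOA _ hhs (fun e => ne_one_of_orderOf_two hs (conj_eq_one_iff.1 e))] at hhe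
    have hcen : ∀ v ∈ E, v * e * v⁻¹ = e := by
      intro v hv
      have hvP : v * e * v⁻¹ ∈ (P : Subgroup G) :=
        (mem_normalizer_iff.1 (map_subtype_le _ hv : v ∈ N) e).1 he
      have h1 : Commute (v * e * v⁻¹) s := by
        have h2 : v * s * v⁻¹ = s := by rw [hEcomm v hv s hsE, mul_inv_cancel_right]
        have h3 := hes.map (MulAut.conj v)
        rwa [show MulAut.conj v s = s from h2] at h3
      have h4 : h * (v * e * v⁻¹) * h⁻¹ ∈ A := by
        rw [← hOA _ hhs (fun e => ne_one_of_orderOf_two hs (conj_eq_one_iff.1 e))]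
        exact (X.mem_Oz hhs (fun e => ne_one_of_orderOf_two hs (conj_eq_one_iff.1 e))).2
          ⟨h1.map (MulAut.conj h), exists_pow_of_isPGroup
            (P.2.map (MulAut.conj h).toMonoidHom) ⟨_, hvP, rfl⟩⟩
      have h5 := hrigid _ hhe (fun e' => he1 (conj_eq_one_iff.1 e')) (h * v * h⁻¹) (by
        rw [show h * v * h⁻¹ * (h * e * h⁻¹) * (h * v * h⁻¹)⁻¹ = h * (v * e * v⁻¹) * h⁻¹ by group]
        exact h4)
      rw [show h * v * h⁻¹ * (h * e * h⁻¹) * (h * v * h⁻¹)⁻¹ = h * (v * e * v⁻¹) * h⁻¹ by group]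
        at h5
      exact mul_left_cancel (mul_right_cancel h5)
    -- `N = P E`
    have hgen : N ≤ centralizer ({e} : Set G) := by
      have hN1 : E ⊔ (P : Subgroup G) = N := by
        refine eq_of_le_of_card_ge (sup_le (map_subtype_le _) le_normalizer) (Nat.le_of_dvd Nat.card_pos ?_)
        refine (Nat.dvd_iff_prime_pow_dvd_dvd _ _).2 fun r k hr hk => ?_
        rcases Nat.eq_zero_or_pos k with rfl | hk0
        · simp
        rcases X.two N hNne h2N r hr ((dvd_pow_self r hk0.ne').trans hk) with rfl | rfl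
        · exact (P.pow_dvd_card_of_pow_dvd_card (hk.trans (card_subgroup_dvd_card N))).trans
            (card_dvd_of_le le_sup_right)
        · refine ((E₀.pow_dvd_card_of_pow_dvd_card hk).trans ?_).trans
            (card_dvd_of_le (le_sup_left : E ≤ E ⊔ (P : Subgroup G)))
          rw [hEdef, card_map_of_injective N.subtype_injective]
      rw [← hN1]
      refine sup_le (fun v hv => mem_centralizer_singleton_iff.2 ?_) (X.le_sylow_centralizer P he)
      exact mul_inv_eq_iff_eq_mul.1 (hcen v hv)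
    -- focal subgroup
    haveI := X.simple
    have hres : Cfsg.pResidual p G = ⊤ := by
      haveI := CfsgLib.Fusion.pResidual_normal (G := G) (p := p)
      rcases (inferInstance : (Cfsg.pResidual p G).Normal).eq_bot_or_eq_top with h | h
      · exfalso
        have h1 := h.le (CfsgLib.Fusion.mem_pResidual (p := p) (g := s) (by
          rw [hs]; exact (Nat.coprime_primes Nat.prime_two hp.out).2 X.hp2.symm))
        exact ne_one_of_orderOf_two hs (mem_bot.1 h1)
      · exact h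
    have hPN : (P : Subgroup G) ≤ ⁅(P : Subgroup G), N⁆ := by
      rw [← CfsgLib.Fusion.inf_pResidual_abelian_sylow P (X.ab P), hres, inf_top_eq]
    set P' := (P : Subgroup G).subgroupOf N
    haveI : IsMulCommutative P' :=
      CfsgLib.Fusion.isMulCommutative_subgroupOf (X.ab P)
    have heN : e ∈ N := le_normalizer he
    have hcop : Nat.Coprime (Nat.card P') P'.index := by
      obtain ⟨k, hk⟩ := P.2.exists_card_eq
      rw [Nat.card_congr (subgroupOfEquivOfLe (le_normalizer : (P : Subgroup G) ≤ N)).toEquiv, hk]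
      exact (hp.out.coprime_iff_not_dvd.2 fun hd =>
        P.not_dvd_index (hd.trans (relIndex_dvd_index_of_le le_normalizer))).pow_left k
    have hz : (⟨e, heN⟩ : N) ∈ Subgroup.center N := mem_center_iff.2 fun w =>
      Subtype.ext (mem_centralizer_singleton_iff.1 (hgen w.2))
    have hcom : (⟨e, heN⟩ : N) ∈ commutator N := by
      have h1 : ⁅(P : Subgroup G), N⁆ ≤ (commutator N).map N.subtype := by
        refine commutator_le.2 fun a ha c hc => ?_
        exact ⟨⁅(⟨a, le_normalizer ha⟩ : N), ⟨c, hc⟩⁆,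
          commutator_mem_commutator (mem_top _) (mem_top _), rfl⟩
      obtain ⟨w, hw, hwe⟩ := h1 (hPN he)
      rwa [show (⟨e, heN⟩ : N) = w from Subtype.ext hwe.symm]
    exact he1 (congrArg Subtype.val
      (CfsgLib.Fusion.central_inf_commutator_eq_one P' hcop hz hcom (show (⟨e, heN⟩ : N) ∈ P' from he)))
  -- a conjugate of `A` meets `P`
  obtain ⟨⟨a, ha⟩, hane⟩ := ne_bot_iff_exists_ne_one.1 hA1
  have ha1 : a ≠ 1 := fun h => hane (Subtype.ext h)
  obtain ⟨P₁, hP₁⟩ := hAp.exists_le_sylow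
  obtain ⟨g, hg⟩ := MulAction.exists_smul_eq G P₁ P
  have hgaP : g * a * g⁻¹ ∈ (P : Subgroup G) := hg ▸ ⟨a, hP₁ ha, rfl⟩
  have hga1 : g * a * g⁻¹ ≠ 1 := fun h => ha1 (conj_eq_one_iff.1 h)
  refine hnoreal _ (exists_pow_of_isPGroup P.2 hgaP) hga1 s (X.inverts P.2 hs hsP hfix hgaP)
    (g * t₀ * g⁻¹) ((orderOf_conj g t₀).trans (X.orderOf_of_mem_Q ht₀ ht₀1)) ?_
  exact (show Commute a t₀ from ((X.mem_Oz ht₀ ht₀1).1 ha).1).map (MulAut.conj g)

/-- The configuration is impossible. -/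
theorem false_of_ctx : False := by
  classical
  by_cases hne : ∀ t ∈ (Q : Subgroup G), t ≠ 1 → Oz p t ≠ ⊥
  · by_cases hnc : ∀ t ∈ (Q : Subgroup G), t ≠ 1 →
        ¬ Oz p t ≤ centralizer ((Q : Subgroup G) : Set G)
    · exact X.false_of_not_centralize hne hnc
    · push Not at hnc
      obtain ⟨t, ht, ht1, hc⟩ := hnc
      exact X.false_of_centralize ht ht1 (hne t ht ht1) hc
  · push Not at hne
    obtain ⟨t, ht, ht1, h0⟩ := hne
    refine X.false_of_Oz_bot ?_
    intro v hv hv1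
    obtain ⟨i, hi⟩ := X.y_trans t ht ht1 v hv hv1
    rw [← hi, ← X.conj_map_Oz ht ht1 (by rw [hi]; exact hv), h0, CfsgLib.Fusion.conjBy,
      Subgroup.map_bot]

end Ctx

end CfsgLib.LargePrimeMix
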