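import Cfsg.Agent.Lib.Invol.LargePrimeMix.Basic

/-!
# Inverted `p`-elements
-/

set_option autoImplicit false
set_option linter.style.haveILetI false
set_option linter.unusedSectionVars false

open Subgroup

namespace CfsgLib.LargePrimeMix

universe u

variable {G : Type u} [Group G] [Finite G]

theorem mul_self_of_orderOf_two {u : G} (hu : orderOf u = 2) : u * u = 1 := by
  rw [← pow_two, ← hu, pow_orderOf_eq_one]

theorem inv_of_orderOf_two {u : G} (hu : orderOf u = 2) : u⁻¹ = u :=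
  inv_eq_of_mul_eq_one_right (mul_self_of_orderOf_two hu)

theorem ne_one_of_orderOf_two {u : G} (hu : orderOf u = 2) : u ≠ 1 := fun h => by
  rw [h, orderOf_one] at hu
  exact absurd hu (by norm_num)

theorem orderOf_conj (g u : G) : orderOf (g * u * g⁻¹) = orderOf u :=
  (orderOf_injective (MulAut.conj g).toMonoidHom (MulAut.conj g).injective u)

namespace Ctx

variable {p b : ℕ} [hp : Fact p.Prime] {Q : Sylow 2 G} {y : G} (X : Ctx G p b Q y)
include X

theorem orderOf_of_mem_Q {t : G} (ht : t ∈ (Q : Subgroup G)) (ht1 : t ≠ 1) : orderOf t = 2 :=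
  orderOf_eq_prime (by rw [pow_two]; exact X.sqQ ht) ht1

theorem all_conj {t u : G} (ht : t ∈ (Q : Subgroup G)) (ht1 : t ≠ 1) (hu : orderOf u = 2) :
    ∃ g : G, g * t * g⁻¹ = u := by
  obtain ⟨h, hh⟩ := X.inv_conj hu
  obtain ⟨i, hi⟩ := X.y_trans t ht ht1 _ hh (fun e => ne_one_of_orderOf_two hu (conj_eq_one_iff.1 e))
  refine ⟨h⁻¹ * y ^ i, ?_⟩
  rw [show h⁻¹ * y ^ i * t * (h⁻¹ * y ^ i)⁻¹ = h⁻¹ * (y ^ i * t * (y ^ i)⁻¹) * h by group, hi]
  group

/-- A `p`-element centralizing an involution is conjugate into some `Oz t`. -/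
theorem commute_conj {d z : G} (hd : ∃ k, d ^ p ^ k = 1) (hz : orderOf z = 2) (h : Commute d z) :
    ∃ g : G, g * z * g⁻¹ ∈ (Q : Subgroup G) ∧ g * d * g⁻¹ ∈ Oz p (g * z * g⁻¹) := by
  obtain ⟨g, hg⟩ := X.inv_conj hz
  refine ⟨g, hg, (X.mem_Oz hg (fun e => ne_one_of_orderOf_two hz (conj_eq_one_iff.1 e))).2 ⟨?_, ?_⟩⟩
  · exact h.map (MulAut.conj g)
  · obtain ⟨k, hk⟩ := hd
    exact ⟨k, by rw [conj_pow, hk, mul_one, mul_inv_cancel]⟩

theorem inverts {R : Subgroup G} (hR : IsPGroup p R) {u : G} (hu : orderOf u = 2)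
    (hn : u ∈ normalizer (R : Set G)) (hfix : ∀ e ∈ R, Commute e u → e = 1) {d : G} (hd : d ∈ R) :
    u * d * u⁻¹ = d⁻¹ := by
  have h1 : u * d * u⁻¹ ∈ R := (mem_normalizer_iff.1 hn d).1 hd
  have h2 : u * (d * (u * d * u⁻¹)) * u⁻¹ = d * (u * d * u⁻¹) := by
    rw [X.comm_of_isPGroup hR hd h1]
    conv_rhs => rw [X.comm_of_isPGroup hR h1 hd]
    rw [show u * (u * d * u⁻¹ * d) * u⁻¹ = (u * u) * d * u⁻¹ * d * u⁻¹ by group,
      mul_self_of_orderOf_two hu, inv_of_orderOf_two hu]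
    group
  have h3 := hfix _ (mul_mem hd h1) ((mul_inv_eq_iff_eq_mul.1 h2).symm)
  exact eq_inv_of_mul_eq_one_right h3

theorem sylow_ne_bot (P : Sylow p G) : (P : Subgroup G) ≠ ⊥ := P.ne_bot_of_dvd_card X.pdvd

theorem le_sylow_centralizer (P : Sylow p G) {d : G} (hd : d ∈ (P : Subgroup G)) :
    (P : Subgroup G) ≤ centralizer ({d} : Set G) := fun _ hc =>
  mem_centralizer_singleton_iff.2 (X.comm_of_isPGroup P.2 hc hd)

theorem exists_noncommuting :
    ∃ s t : G, orderOf s = 2 ∧ orderOf t = 2 ∧ ¬ Commute s t := by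
  by_contra h
  push Not at h
  obtain ⟨t, htQ, ht⟩ := X.exists_two
  set K := closure {u : G | orderOf u = 2} with hK
  haveI : IsMulCommutative K :=
    isMulCommutative_closure fun a ha c hc => (h a c ha hc).eq
  haveI hKn : K.Normal := by
    refine ⟨fun x hx g => ?_⟩
    have h1 : K.map (MulAut.conj g).toMonoidHom ≤ K := by
      rw [hK, MonoidHom.map_closure, closure_le]
      rintro _ ⟨u, hu, rfl⟩
      exact subset_closure ((orderOf_conj g u).trans hu)
    exact h1 ⟨x, hx, rfl⟩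
  haveI := X.simple
  rcases hKn.eq_bot_or_eq_top with e | e
  · exact ne_one_of_orderOf_two ht (mem_bot.1 (e.le (subset_closure ht)))
  · obtain ⟨a, c, hac⟩ := X.nonab
    exact hac (congrArg Subtype.val
      (mul_comm' (⟨a, e.ge (mem_top a)⟩ : K) ⟨c, e.ge (mem_top c)⟩))

/-- The product of two noncommuting involutions generates a `p`-group with Sylow centralizer. -/
theorem exists_inverted
    (hZ : ∀ s t z : G, orderOf s = 2 → orderOf t = 2 → orderOf z = 2 → Commute s z → Commute t z →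
      Commute s t)
    (hR : ∀ d : G, (∃ k, d ^ p ^ k = 1) → d ≠ 1 → ∀ s : G, orderOf s = 2 → s * d * s⁻¹ = d⁻¹ →
      ∀ z : G, orderOf z = 2 → ¬ Commute d z)
    {s t : G} (hs : orderOf s = 2) (ht : orderOf t = 2) (hst : ¬ Commute s t) :
    ∃ P : Sylow p G, s * t ∈ (P : Subgroup G) ∧ s * t ≠ 1 ∧
      s ∈ normalizer ((P : Subgroup G) : Set G) ∧ t ∈ normalizer ((P : Subgroup G) : Set G) ∧
      centralizer ({s * t} : Set G) = (P : Subgroup G) := by
  set x := s * t with hx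
  have hsx : s * x * s⁻¹ = x⁻¹ := by
    rw [hx, mul_inv_rev, inv_of_orderOf_two hs, inv_of_orderOf_two ht,
      show s * (s * t) * s = (s * s) * (t * s) by group, mul_self_of_orderOf_two hs, one_mul]
  have hx1 : x ≠ 1 := fun h => hst (by
    rw [show t = s by rw [← inv_of_orderOf_two hs, ← eq_inv_of_mul_eq_one_right (hx ▸ h)]])
  have hodd : ¬ 2 ∣ orderOf x := by
    intro h2
    set z := x ^ (orderOf x / 2)
    have hz : orderOf z = 2 := by
      rw [orderOf_pow_of_dvd (Nat.div_ne_zero_iff_of_dvd h2 |>.2 ⟨(orderOf_pos x).ne', two_ne_zero⟩)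
        (Nat.div_dvd_of_dvd h2), Nat.div_div_self h2 (orderOf_pos x).ne']
    have hsz : Commute s z := by
      have h1 : s * z * s⁻¹ = z := by
        rw [← conj_pow, hsx, inv_pow, inv_of_orderOf_two hz]
      exact mul_inv_eq_iff_eq_mul.1 h1
    have htz : Commute t z := by
      have e : t = s * x := by rw [hx, ← mul_assoc, mul_self_of_orderOf_two hs, one_mul]
      rw [e]
      exact hsz.mul_left ((Commute.refl x).pow_right _)
    exact hst (hZ s t z hs ht hz hsz htz)
  set N := normalizer (zpowers x : Set G)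
  have hsN : s ∈ N := by
    refine CfsgLib.Fusion.conjBy_eq_iff.1 (CfsgLib.Fusion.conjBy_eq_of_le ?_)
    rintro _ ⟨w, ⟨i, rfl⟩, rfl⟩
    show s * x ^ i * s⁻¹ ∈ zpowers x
    rw [← conj_zpow, hsx]
    exact zpow_mem (inv_mem (mem_zpowers x)) i
  have hN : N ≠ ⊤ := X.normalizer_ne_top (zpowers_ne_bot.2 hx1) fun h => by
    obtain ⟨a, c, hac⟩ := X.nonab
    obtain ⟨i, rfl⟩ := h.ge (mem_top a)
    obtain ⟨j, rfl⟩ := h.ge (mem_top c)
    exact hac ((Commute.refl x).zpow_zpow i j).eq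
  have h2N : 2 ∣ Nat.card N := hs ▸ orderOf_dvd_natCard N hsN
  have hxp : IsPGroup p (zpowers x) :=
    X.isPGroup_of_odd hN le_normalizer h2N (by rwa [Nat.card_zpowers])
  set C := centralizer ({x} : Set G)
  have hxpp := exists_pow_of_isPGroup hxp (mem_zpowers x)
  have hCN : C ≤ N := fun c hc => centralizer_le_normalizer _ (mem_centralizer_iff.2 fun w hw => by
    obtain ⟨i, rfl⟩ := hw
    exact ((show Commute c x from mem_centralizer_singleton_iff.1 hc).zpow_right i).eq.symm)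
  have hCp : IsPGroup p C := X.isPGroup_of_odd hN hCN h2N fun h2 => by
    obtain ⟨z, hz⟩ := exists_prime_orderOf_dvd_card' 2 h2
    exact hR x hxpp hx1 s hs hsx z (by rwa [Subgroup.orderOf_coe])
      (show Commute (z : G) x from mem_centralizer_singleton_iff.1 z.2).symm
  obtain ⟨P, hP⟩ := hCp.exists_le_sylow
  have hxP : x ∈ (P : Subgroup G) := hP (mem_centralizer_singleton_iff.2 rfl)
  have hCP : C = (P : Subgroup G) := le_antisymm hP (X.le_sylow_centralizer P hxP)
  have hsP : s ∈ normalizer ((P : Subgroup G) : Set G) := by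
    rw [← hCP]
    refine CfsgLib.Fusion.conjBy_eq_iff.1 (CfsgLib.Fusion.conjBy_eq_of_le ?_)
    rintro _ ⟨c, hc, rfl⟩
    refine mem_centralizer_singleton_iff.2 ?_
    have h1 : Commute (s * c * s⁻¹) (s * x⁻¹ * s⁻¹) :=
      ((show Commute c x from mem_centralizer_singleton_iff.1 hc).inv_right).map (MulAut.conj s)
    rw [show s * x⁻¹ * s⁻¹ = (s * x * s⁻¹)⁻¹ by group, hsx, inv_inv] at h1
    exact h1.eq
  refine ⟨P, hxP, hx1, hsP, ?_, hCP⟩
  have e : t = s * x := by rw [hx, ← mul_assoc, mul_self_of_orderOf_two hs, one_mul]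
  rw [e]
  exact mul_mem hsP (le_normalizer hxP)

end Ctx

end CfsgLib.LargePrimeMix
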