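import Cfsg.Agent.Lib.Invol.LargePrimeMix.Central
import Cfsg.Agent.Lib.LocalStructure.Basic

/-!
# Groups whose proper `q`-singular subgroups are `p`-singular, `p` large
-/

set_option autoImplicit false
set_option linter.style.haveILetI false
set_option linter.unusedSectionVars false

open Subgroup

namespace CfsgLib.LargePrimeMix

universe u

theorem primes_aux {p q : ℕ} (hp : p.Prime) (hq : q.Prime) (hpq : p ≠ q) (hp2 : p ≠ 2) (n : ℕ) :
    ∀ (G : Type u) [Group G] [Finite G], Nat.card G = n → p ∣ Nat.card G → q ∣ Nat.card G →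
      (∀ H : Subgroup G, H ≠ ⊤ → ¬ IsPGroup q H → q ∣ Nat.card H → p ∣ Nat.card H) →
      (q ^ (Nat.card G).factorization q - 1 < p ∨
        (p = q ^ (Nat.card G).factorization q - 1 ∧ ∀ P : Sylow p G, IsMulCommutative P)) →
      ∀ r : ℕ, r.Prime → r ∣ Nat.card G → r = p ∨ r = q := by
  induction n using Nat.strong_induction_on with
  | _ n ih =>
  intro G _ _ hn hpG hqG hmix hlarge r hr hrG
  haveI := Fact.mk hp
  haveI := Fact.mk hq
  haveI := Fact.mk hr
  set b := (Nat.card G).factorization q with hb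
  by_contra hcon
  push Not at hcon
  obtain ⟨hrp, hrq⟩ := hcon
  have key : ∀ H : Subgroup G, H ≠ ⊤ → q ∣ Nat.card H → ∀ s : ℕ, s.Prime → s ∣ Nat.card H →
      s = p ∨ s = q := by
    intro H hH hqH s hs hsH
    by_cases hHq : IsPGroup q H
    · obtain ⟨k, hk⟩ := hHq.exists_card_eq
      exact Or.inr ((Nat.prime_dvd_prime_iff_eq hs hq).1 (hs.dvd_of_dvd_pow (hk ▸ hsH)))
    have hlt : Nat.card H < n := by
      refine hn ▸ lt_of_le_of_ne H.card_le_card_group fun h => hH ?_
      exact H.eq_top_of_card_eq h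
    refine ih _ hlt H rfl (hmix H hH hHq hqH) hqH (fun K hK hKq hqK => ?_) ?_ s hs hsH
    · have hK' : K.map H.subtype ≠ ⊤ := fun h => hH (top_le_iff.1 (h.ge.trans (map_subtype_le _)))
      have hc : Nat.card (K.map H.subtype) = Nat.card K := card_map_of_injective H.subtype_injective
      rw [← hc]
      refine hmix _ hK' (fun h => hKq ?_) (hc ▸ hqK)
      exact IsPGroup.of_equiv h (K.equivMapOfInjective _ H.subtype_injective).symm
    · have hle : (Nat.card H).factorization q ≤ b :=
        (Nat.factorization_le_iff_dvd Nat.card_pos.ne' Nat.card_pos.ne').2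
          (card_subgroup_dvd_card H) q
      have hpow := Nat.pow_le_pow_right hq.pos hle
      rcases hlarge with h | ⟨h, hab⟩
      · exact Or.inl (lt_of_le_of_lt (Nat.sub_le_sub_right hpow 1) h)
      · rcases hle.eq_or_lt with e | e
        · refine Or.inr ⟨by rw [e]; exact h, fun P => ?_⟩
          obtain ⟨S, hS⟩ := (P.2.map H.subtype).exists_le_sylow
          refine ⟨⟨fun a c => Subtype.ext (Subtype.ext ?_)⟩⟩
          have h := congrArg Subtype.val ((hab S).is_comm.comm
            (⟨((a : H) : G), hS ⟨a, a.2, rfl⟩⟩ : (S : Subgroup G))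
            ⟨((c : H) : G), hS ⟨c, c.2, rfl⟩⟩)
          exact h
        · refine Or.inl ?_
          have h1 := Nat.pow_lt_pow_right hq.one_lt e
          have h2 : 0 < q ^ (Nat.card H).factorization q := pow_pos hq.pos _
          omega
  have bad : ∀ H : Subgroup G, H ≠ ⊤ → q ∣ Nat.card H → r ∣ Nat.card H → False :=
    fun H hH h1 h2 => (key H hH h1 r hr h2).elim hrp hrq
  -- a subgroup whose order is prime to `p` is proper
  have proper : ∀ {H : Subgroup G} {i j : ℕ} {s : ℕ}, s.Prime → s ≠ p →
      Nat.card H ∣ q ^ i * s ^ j → H ≠ ⊤ := by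
    intro H i j s hs hsp hd h
    rw [h, card_top] at hd
    rcases (Nat.Prime.dvd_mul hp).1 (hpG.trans hd) with h1 | h1
    · exact hpq ((Nat.prime_dvd_prime_iff_eq hp hq).1 (hp.dvd_of_dvd_pow h1))
    · exact hsp ((Nat.prime_dvd_prime_iff_eq hp hs).1 (hp.dvd_of_dvd_pow h1)).symm
  have hA1 : ∀ Q₀ : Subgroup G, IsPGroup q Q₀ → Q₀ ≠ ⊥ → normalizer (Q₀ : Set G) ≠ ⊤ := by
    intro Q₀ hQ₀ hne htop
    haveI : Q₀.Normal := normalizer_eq_top_iff.1 htop
    obtain ⟨i, hi⟩ := hQ₀.exists_card_eq
    have hi0 : i ≠ 0 := fun h => hne (card_eq_one.1 (by rw [hi, h, pow_zero]))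
    set R : Sylow r G := default
    obtain ⟨j, hj⟩ := R.2.exists_card_eq
    have hd : Nat.card ↥((R : Subgroup G) ⊔ Q₀) ∣ q ^ i * r ^ j := by
      rw [← hi, ← hj, mul_comm]
      exact CfsgLib.Coprime.card_sup_dvd_of_normal (R : Subgroup G) Q₀
    refine bad _ (proper hr hrp hd) ?_ ?_
    · exact ((dvd_pow_self q hi0).trans hi.symm.dvd).trans (card_dvd_of_le le_sup_right)
    · exact (R.dvd_card_of_dvd_card hrG).trans (card_dvd_of_le le_sup_left)
  set Q : Sylow q G := default
  have hQc : Nat.card (Q : Subgroup G) = q ^ b := Q.card_eq_multiplicity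
  have hb0 : b ≠ 0 := fun h => by
    have h1 := Q.dvd_card_of_dvd_card hqG
    rw [hQc, h, pow_zero] at h1
    exact hq.one_lt.ne' (Nat.dvd_one.1 h1)
  -- normal subgroups
  have hnormal : ∀ M : Subgroup G, M.Normal → M ≠ ⊤ → IsPGroup p M := by
    intro M hMn hM
    by_cases hqM : q ∣ Nat.card M
    · exfalso
      obtain ⟨R, hR⟩ := CfsgLib.LS.sylow_inf_normal Q M
      have hne : (R : Subgroup M).map M.subtype ≠ ⊥ := fun h => by
        rw [map_eq_bot_iff_of_injective _ M.subtype_injective] at h
        exact R.ne_bot_of_dvd_card hqM h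
      set N := normalizer (((R : Subgroup M).map M.subtype : Subgroup G) : Set G)
      have hNne := hA1 _ (R.2.map M.subtype) hne
      have hqN : q ∣ Nat.card N := ((R.dvd_card_of_dvd_card hqM).trans
        (card_map_of_injective M.subtype_injective).symm.dvd).trans (card_dvd_of_le le_normalizer)
      have htop : N ⊔ M = ⊤ := R.normalizer_sup_eq_top
      have hd : r ∣ Nat.card N * Nat.card M :=
        (hrG.trans (by rw [← card_top (G := G), ← htop])).trans
          (CfsgLib.Coprime.card_sup_dvd_of_normal N M)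
      rcases (Nat.Prime.dvd_mul hr).1 hd with h | h
      · exact bad N hNne hqN h
      · exact bad M hM hqM h
    · refine IsPGroup.of_card (n := (Nat.card M).primeFactorsList.length)
        (Nat.eq_prime_pow_of_unique_prime_dvd Nat.card_pos.ne' fun {s} hs hsM => ?_)
      by_contra hsp
      haveI := Fact.mk hs
      have hsq : s ≠ q := fun h => hqM (h ▸ hsM)
      have hcop : (Nat.card (Q : Subgroup G)).Coprime (Nat.card M) := by
        rw [hQc]
        exact (hq.coprime_iff_not_dvd.2 hqM).pow_left b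
      haveI : Group.IsNilpotent (Q : Subgroup G) := Q.2.isNilpotent
      obtain ⟨S, hS, hQS⟩ := CfsgLib.Coprime.exists_invariant_sylow
        (le_top.trans (normalizer_eq_top (H := M)).ge : (Q : Subgroup G) ≤ normalizer (M : Set G))
        hcop (Or.inl inferInstance) s
      have hd : Nat.card ↥((Q : Subgroup G) ⊔ S) ∣ q ^ b * s ^ (Nat.card M).factorization s := by
        rw [← hQc, ← hS.2]
        exact CfsgLib.Coprime.card_sup_dvd_of_le_normalizer hQS
      have hs1 : s ∣ Nat.card S := by
        rw [hS.2]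
        exact dvd_pow_self s (hs.factorization_pos_of_dvd Nat.card_pos.ne' hsM).ne'
      rcases key _ (proper hs hsp hd) ((Q.dvd_card_of_dvd_card hqG).trans (card_dvd_of_le le_sup_left))
        s hs (hs1.trans (card_dvd_of_le le_sup_right)) with h | h
      · exact hsp h
      · exact hsq h
  -- a `p`-element acts on `Q`
  have hloc : ∃ Q₀ ≤ (Q : Subgroup G), ∃ z ∈ normalizer (Q₀ : Set G),
      (∃ k, z ^ p ^ k = 1) ∧ z ∉ centralizer (Q₀ : Set G) := by
    by_contra hno
    push Not at hno
    have hL : CfsgLib.Fusion.LocallyPNilpotentAction q (Q : Subgroup G) := by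
      intro Q₀ hQ₀ g hg hgq
      by_cases hne : Q₀ = ⊥
      · rw [hne]
        exact mem_centralizer_iff.2 fun e he => by rw [mem_bot.1 he, one_mul, mul_one]
      refine (CfsgLib.Fusion.le_of_forall_prime_pow fun s hs x hx hk => ?_ :
        zpowers g ≤ centralizer (Q₀ : Set G)) (mem_zpowers g)
      by_cases hx1 : x = 1
      · rw [hx1]; exact one_mem _
      have hsd : s ∣ orderOf x := by
        obtain ⟨k, hk⟩ := hk
        obtain ⟨j, -, hj⟩ := (Nat.dvd_prime_pow hs).1 (orderOf_dvd_of_pow_eq_one hk)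
        have hj0 : j ≠ 0 := fun h0 => hx1 (orderOf_eq_one_iff.1 (by rw [hj, h0, pow_zero]))
        exact hj ▸ dvd_pow_self s hj0
      have hxN : x ∈ normalizer (Q₀ : Set G) := zpowers_le.2 hg hx
      obtain ⟨i, hi⟩ := (Q.2.to_le hQ₀).exists_card_eq
      have hi0 : i ≠ 0 := fun h => hne (card_eq_one.1 (by rw [hi, h, pow_zero]))
      rcases key _ (hA1 Q₀ (Q.2.to_le hQ₀) hne)
        (((dvd_pow_self q hi0).trans hi.symm.dvd).trans (card_dvd_of_le le_normalizer)) s hs
        (hsd.trans (orderOf_dvd_natCard _ hxN)) with rfl | rfl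
      · exact hno Q₀ hQ₀ x hxN hk
      · exfalso
        have h1 : orderOf x ∣ orderOf g := by
          obtain ⟨i, rfl⟩ := mem_zpowers_iff.1 hx
          exact orderOf_dvd_of_mem_zpowers ⟨i, rfl⟩
        exact hq.one_lt.ne' (Nat.dvd_one.1 (hgq ▸ Nat.dvd_gcd (hsd.trans h1) dvd_rfl))
    have hcompl := CfsgLib.Fusion.hasNormalPComplement_of_locallyPNilpotentAction Q hL
    haveI := CfsgLib.Fusion.pResidual_normal (G := G) (p := q)
    have hnd := CfsgLib.Fusion.hasNormalPComplement_iff_not_dvd.1 hcompl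
    have hMt : Cfsg.pResidual q G ≠ ⊤ := fun h => hnd (by rw [h, card_top]; exact hqG)
    obtain ⟨a, ha⟩ := (hnormal _ inferInstance hMt).exists_card_eq
    obtain ⟨c, hc⟩ := CfsgLib.Fusion.exists_index_pResidual (G := G) (p := q)
    have hG : Nat.card G = p ^ a * q ^ c := by
      rw [← ha, ← hc, Subgroup.card_mul_index]
    rw [hG] at hrG
    rcases (Nat.Prime.dvd_mul hr).1 hrG with h | h
    · exact hrp ((Nat.prime_dvd_prime_iff_eq hr hp).1 (hr.dvd_of_dvd_pow h))
    · exact hrq ((Nat.prime_dvd_prime_iff_eq hr hq).1 (hr.dvd_of_dvd_pow h))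
  obtain ⟨Q₀, hQ₀, z, hz, hzp, hzc⟩ := hloc
  obtain ⟨a, ha⟩ := (Q.2.to_le hQ₀).exists_card_eq
  obtain ⟨i, hi1, hia, hid⟩ : ∃ i, 1 ≤ i ∧ i ≤ a ∧ p ∣ q ^ i - 1 := by
    by_contra hno
    push Not at hno
    exact hzc (CfsgLib.Fusion.mem_centralizer_of_prime_pow ha hz hzp hpq hno)
  have hab' : a ≤ b := (Nat.pow_dvd_pow_iff_le_right hq.one_lt).1 (ha ▸ hQc ▸ card_dvd_of_le hQ₀)
  have hqi : 1 < q ^ i := Nat.one_lt_pow (by omega) hq.one_lt
  have hpi : p ≤ q ^ i - 1 := Nat.le_of_dvd (by omega) hid
  have hib : q ^ i ≤ q ^ b := Nat.pow_le_pow_right hq.pos (hia.trans hab')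
  rcases hlarge with h | ⟨h, habP⟩
  · omega
  have hib' : i = b := Nat.pow_right_injective hq.two_le (by
    show q ^ i = q ^ b
    omega)
  have haeq : a = b := by omega
  have hQ0eq : Q₀ = (Q : Subgroup G) := eq_of_le_of_card_ge hQ₀ (by rw [ha, hQc, haeq])
  subst hQ0eq
  obtain rfl : q = 2 := by
    by_contra hq2
    obtain ⟨w, hw⟩ : Odd (q ^ b) := (hq.odd_of_ne_two hq2).pow
    obtain ⟨v, hv⟩ := hp.odd_of_ne_two hp2
    omega
  have hpb : p + 1 = 2 ^ b := by omega
  have hb2 : 2 ≤ b := by
    by_contra hlt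
    have : b = 1 := by omega
    rw [this] at hpb
    have := hp.two_le
    omega
  -- simplicity
  have hzne : ∀ M : Subgroup G, M.Normal → M ≠ ⊤ → M ≠ ⊥ → False := by
    intro M hMn hMt hMb
    haveI := hMn
    have hnoP : ∀ P : Sylow p G, (P : Subgroup G).Normal → False := by
      intro P hPn
      obtain ⟨K, hK⟩ := exists_right_complement'_of_coprime P.card_coprime_index
      have hKc : Nat.card (P : Subgroup G) * Nat.card K = Nat.card G := hK.card_mul
      obtain ⟨j, hj⟩ := P.2.exists_card_eq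
      have hd : ∀ s, s.Prime → s ≠ p → s ∣ Nat.card G → s ∣ Nat.card K := fun s hs hsp hsG => by
        rw [← hKc, hj] at hsG
        exact ((Nat.Prime.dvd_mul hs).1 hsG).resolve_left fun h =>
          hsp ((Nat.prime_dvd_prime_iff_eq hs hp).1 (hs.dvd_of_dvd_pow h))
      refine bad K (fun h => ?_) (hd 2 Nat.prime_two hp2.symm hqG) (hd r hr hrp hrG)
      rw [h, card_top] at hKc
      have h1 : Nat.card (P : Subgroup G) = 1 := by
        have := Nat.card_pos (α := G)
        nlinarith
      exact P.ne_bot_of_dvd_card hpG (card_eq_one.1 h1)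
    set C := centralizer (M : Set G)
    haveI : C.Normal := normal_centralizer
    have hPC : ∀ P : Sylow p G, (P : Subgroup G) ≤ C := fun P x hx =>
      mem_centralizer_iff.2 fun m hm => congrArg Subtype.val ((habP P).is_comm.comm
        (⟨m, (le_trans le_sup_left (P.is_maximal' ((hnormal M hMn hMt).to_sup_of_normal_left P.2) le_sup_right).le) hm⟩ : (P : Subgroup G)) ⟨x, hx⟩)
    by_cases hCt : C = ⊤
    · by_cases hcomm : commutator G = ⊤
      · set P : Sylow p G := default
        haveI := habP P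
        refine hMb ((Subgroup.eq_bot_iff_forall M).2 fun m hm => ?_)
        refine CfsgLib.Fusion.central_inf_commutator_eq_one (P : Subgroup G) P.card_coprime_index
          (mem_center_iff.2 fun g => (mem_centralizer_iff.1 (hCt.ge (mem_top g)) m hm).symm)
          (hcomm.ge (mem_top m)) ?_
        exact (le_trans le_sup_left (P.is_maximal' ((hnormal M hMn hMt).to_sup_of_normal_left P.2) le_sup_right).le) hm
      · set P : Sylow p G := default
        have hle : commutator G ≤ (P : Subgroup G) := by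
          have hp' := hnormal _ inferInstance hcomm
          exact le_trans le_sup_left (P.is_maximal' (hp'.to_sup_of_normal_left P.2) le_sup_right).le
        refine hnoP P ⟨fun x hx g => ?_⟩
        have h1 : g * x * g⁻¹ * x⁻¹ ∈ (P : Subgroup G) :=
          hle (commutator_mem_commutator (mem_top g) (mem_top x))
        simpa using mul_mem h1 hx
    · set P : Sylow p G := default
      have hCP : C = (P : Subgroup G) := P.is_maximal' (hnormal C inferInstance hCt) (hPC P)
      exact hnoP P (hCP ▸ inferInstance)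
  haveI hsimple : IsSimpleGroup G := by
    haveI : Nontrivial G := Finite.one_lt_card_iff_nontrivial.1
      (lt_of_lt_of_le hp.one_lt (Nat.le_of_dvd Nat.card_pos hpG))
    exact ⟨fun M hMn => by
      by_contra hne
      push Not at hne
      exact hzne M hMn hne.2 hne.1⟩
  have X : Ctx G p b Q z := by
    refine ⟨hsimple, ?_, hp2, hb2, hpb, hQc, fun H hH h2 s hs hsH => key H hH h2 s hs hsH, habP,
      hpG, hz, hzp, hzc⟩
    by_contra hab
    push Not at hab
    exact hzc (mem_centralizer_iff.2 fun q _ => hab q z)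
  exact X.false_of_ctx

end CfsgLib.LargePrimeMix
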