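import Cfsg.Agent.Lib.Invol.LargePrimeMix.Inverted
import Cfsg.Agent.Lib.Fusion.OffenderReplacement
import Cfsg.Agent.S4018

/-!
# Nontrivial odd cores of involution centralizers
-/

set_option autoImplicit false
set_option linter.style.haveILetI false
set_option linter.unusedSectionVars false

open Subgroup
open scoped commutatorElement

namespace CfsgLib.LargePrimeMix

universe u

variable {G : Type u} [Group G] [Finite G]

theorem le_normalizer_of_conj_mem {H R : Subgroup G}
    (h : ∀ g ∈ H, ∀ x ∈ R, g * x * g⁻¹ ∈ R) : H ≤ normalizer (R : Set G) := fun g hg => by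
  refine CfsgLib.Fusion.conjBy_eq_iff.1 (CfsgLib.Fusion.conjBy_eq_of_le ?_)
  rintro _ ⟨x, hx, rfl⟩
  exact h g hg x hx

theorem eq_one_of_inv_eq {p : ℕ} [Fact p.Prime] (hp2 : p ≠ 2) {d : G}
    (hd : ∃ k, d ^ p ^ k = 1) (h : d⁻¹ = d) : d = 1 :=
  eq_one_of_two_pow_of_ppow hp2 ⟨1, by
    rw [pow_one, pow_two]
    nth_rewrite 2 [← h]
    exact mul_inv_cancel d⟩ hd

namespace Ctx

variable {p b : ℕ} [hp : Fact p.Prime] {Q : Sylow 2 G} {y : G} (X : Ctx G p b Q y)
include X

theorem oddP (P : Sylow p G) : Nat.Coprime (Nat.card (P : Subgroup G)) 2 := by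
  obtain ⟨k, hk⟩ := P.2.exists_card_eq
  rw [hk]
  exact ((Nat.coprime_primes hp.out Nat.prime_two).2 X.hp2).pow_left k

/-- The Sylow subgroup attached to `Oz t`. -/
theorem exists_good (hne : ∀ t ∈ (Q : Subgroup G), t ≠ 1 → Oz p t ≠ ⊥)
    (hnc : ∀ t ∈ (Q : Subgroup G), t ≠ 1 →
      ¬ Oz p t ≤ centralizer ((Q : Subgroup G) : Set G))
    {t : G} (ht : t ∈ (Q : Subgroup G)) (ht1 : t ≠ 1) :
    ∃ P : Sylow p G, Oz p t ≤ (P : Subgroup G) ∧
      (Q : Subgroup G) ≤ normalizer ((P : Subgroup G) : Set G) := by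
  have hOp := X.Oz_isPGroup ht ht1
  set H := normalizer (Oz p t : Set G)
  have hH : H ≠ ⊤ := X.normalizer_ne_top_of_isPGroup hOp (hne t ht ht1)
  have hQH : (Q : Subgroup G) ≤ H := X.Q_le_normalizer_Oz ht ht1
  have hOX : Oz p t ≤ core p H := le_core le_normalizer hOp le_rfl
  rcases X.dich hH hQH with h | ⟨hX, -, -⟩
  · obtain ⟨P, hP⟩ := hOp.exists_le_sylow
    have hPH : (P : Subgroup G) ≤ H := fun x hx => centralizer_le_normalizer _
      (mem_centralizer_iff.2 fun d hd => X.comm_of_isPGroup P.2 (hP hd) hx)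
    have heq : core p H = (P : Subgroup G) := P.is_maximal' (core_isPGroup p H) (h _ hPH P.2)
    exact ⟨P, hP, heq ▸ hQH.trans (le_normalizer_core p H)⟩
  · exact absurd (hOX.trans hX) (hnc t ht ht1)

/-- The uniqueness of the attached Sylow subgroup. -/
theorem good_unique (hnc : ∀ t ∈ (Q : Subgroup G), t ≠ 1 →
      ¬ Oz p t ≤ centralizer ((Q : Subgroup G) : Set G))
    {w : G} (hw : w ∈ (Q : Subgroup G)) (hw1 : w ≠ 1) {P P' : Sylow p G}
    (hP : (Q : Subgroup G) ≤ normalizer ((P : Subgroup G) : Set G))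
    (hP' : (Q : Subgroup G) ≤ normalizer ((P' : Subgroup G) : Set G))
    (hO : Oz p w ≤ (P' : Subgroup G))
    (hD : (P : Subgroup G) ⊓ centralizer ({w} : Set G) ≠ ⊥) : P = P' := by
  set D := (P : Subgroup G) ⊓ centralizer ({w} : Set G) with hDdef
  set H := normalizer (D : Set G) with hHdef
  have hDp : IsPGroup p D := P.2.to_le inf_le_left
  have hH : H ≠ ⊤ := X.normalizer_ne_top_of_isPGroup hDp hD
  have hQH : (Q : Subgroup G) ≤ H := le_normalizer_of_conj_mem fun q hq x hx => by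
    refine ⟨(mem_normalizer_iff.1 (hP hq) x).1 hx.1, mem_centralizer_singleton_iff.2 ?_⟩
    have h1 := ((show Commute x w from mem_centralizer_singleton_iff.1 hx.2).map (MulAut.conj q)).eq
    have e : q * w * q⁻¹ = w := by rw [X.commQ hq hw, mul_inv_cancel_right]
    show q * x * q⁻¹ * w = w * (q * x * q⁻¹)
    rwa [show MulAut.conj q w = w from e] at h1
  have hDP' : D ≤ (P' : Subgroup G) := fun x hx => hO ((X.mem_Oz hw hw1).2
    ⟨mem_centralizer_singleton_iff.1 hx.2, exists_pow_of_isPGroup hDp hx⟩)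
  have hPH : (P : Subgroup G) ≤ H := fun x hx => centralizer_le_normalizer _
    (mem_centralizer_iff.2 fun d hd => X.comm_of_isPGroup P.2 hd.1 hx)
  have hP'H : (P' : Subgroup G) ≤ H := fun x hx => centralizer_le_normalizer _
    (mem_centralizer_iff.2 fun d hd => X.comm_of_isPGroup P'.2 (hDP' hd) hx)
  rcases X.dich hH hQH with h | ⟨-, -, h⟩
  · exact Sylow.ext ((P.is_maximal' (core_isPGroup p H) (h _ hPH P.2)).symm.trans
      (P'.is_maximal' (core_isPGroup p H) (h _ hP'H P'.2)))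
  · exact absurd (hO.trans (h _ hP'H P'.2 hP')) (hnc w hw hw1)

/-- A subgroup of index at most two with fixed points. -/
theorem exists_hyperplane {R : Subgroup G} (hR : IsPGroup p R) (hR1 : R ≠ ⊥)
    (hQR : (Q : Subgroup G) ≤ normalizer (R : Set G)) :
    ∃ K : Subgroup G, K ≤ (Q : Subgroup G) ∧ Nat.card (Q : Subgroup G) ≤ 2 * Nat.card K ∧
      R ⊓ centralizer (K : Set G) ≠ ⊥ := by
  obtain ⟨K, -, hK⟩ := exists_maximal_ge_of_wellFoundedGT
    (fun K : Subgroup G => K ≤ (Q : Subgroup G) ∧ R ⊓ centralizer (K : Set G) ≠ ⊥) ⊥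
    ⟨bot_le, fun h => hR1 (le_bot_iff.1 (le_trans (le_inf le_rfl fun x _ =>
      mem_centralizer_iff.2 fun e he => by rw [mem_bot.1 he, one_mul, mul_one]) h.le))⟩
  obtain ⟨hKQ, hKD⟩ := hK.prop
  refine ⟨K, hKQ, ?_, hKD⟩
  set D := R ⊓ centralizer (K : Set G) with hDdef
  by_contra hlt
  have hbig : ∀ x ∈ (Q : Subgroup G), x ∉ K → ∀ e ∈ D, Commute e x → e = 1 := by
    intro x hx hxK e he hc
    by_contra he1
    have h2 : K ⊔ zpowers x ≤ (Q : Subgroup G) ∧
        R ⊓ centralizer ((K ⊔ zpowers x : Subgroup G) : Set G) ≠ ⊥ := by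
      refine ⟨sup_le hKQ (zpowers_le.2 hx), fun h => he1 (mem_bot.1 (h.le ⟨he.1, ?_⟩))⟩
      rw [CfsgLib.Fusion.centralizer_sup_eq]
      refine ⟨he.2, mem_centralizer_iff.2 fun w hw => ?_⟩
      obtain ⟨i, rfl⟩ := mem_zpowers_iff.1 hw
      exact (hc.zpow_right i).eq.symm
    exact hxK ((hK.eq_of_le h2 le_sup_left).ge (mem_sup_right (mem_zpowers x)))
  obtain ⟨v, hv, hvK⟩ := SetLike.not_le_iff_exists.1 (fun h : (Q : Subgroup G) ≤ K => hlt (by
    have := card_le_of_le h; omega))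
  have hKv : Nat.card ↥(zpowers v ⊔ K) ≤ 2 * Nat.card K := by
    have hvn : zpowers v ≤ normalizer (K : Set G) := zpowers_le.2 (centralizer_le_normalizer _
      (mem_centralizer_iff.2 fun k hk => X.commQ (hKQ hk) hv))
    refine (Nat.le_of_dvd (Nat.mul_pos Nat.card_pos Nat.card_pos)
      (CfsgLib.Coprime.card_sup_dvd_of_le_normalizer hvn)).trans ?_
    have hv1 : v ≠ 1 := fun h => hvK (h ▸ one_mem K)
    rw [Nat.card_zpowers, X.orderOf_of_mem_Q hv hv1]
  obtain ⟨w, hw, hwK⟩ := SetLike.not_le_iff_exists.1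
    (fun h : (Q : Subgroup G) ≤ zpowers v ⊔ K => hlt (by have := card_le_of_le h; omega))
  have hinv : ∀ x ∈ (Q : Subgroup G), x ∉ K → ∀ d ∈ D, x * d * x⁻¹ = d⁻¹ := by
    intro x hx hxK d hd
    refine X.inverts (R := D) (hR.to_le inf_le_left)
      (X.orderOf_of_mem_Q hx fun h => hxK (h ▸ one_mem K)) ?_ (hbig x hx hxK) hd
    refine le_normalizer_of_conj_mem (H := (Q : Subgroup G)) (fun q hq e he => ?_) hx
    refine ⟨(mem_normalizer_iff.1 (hQR hq) e).1 he.1, mem_centralizer_iff.2 fun k hk => ?_⟩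
    calc k * (q * e * q⁻¹) = q * (k * e) * q⁻¹ := by
          rw [← mul_assoc, ← mul_assoc, X.commQ (hKQ hk) hq, mul_assoc q k e]
      _ = q * (e * k) * q⁻¹ := by rw [mem_centralizer_iff.1 he.2 k hk]
      _ = q * e * (k * q⁻¹) := by group
      _ = q * e * q⁻¹ * k := by
          rw [X.commQ (hKQ hk) (inv_mem hq)]; group
  obtain ⟨⟨d, hd⟩, hne⟩ := ne_bot_iff_exists_ne_one.1 hKD
  refine hne (Subtype.ext ?_)
  have hw' : w ∉ K := fun h => hwK (mem_sup_right h)
  have hvw : v * w ∉ K := fun h => hwK (by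
    have : v⁻¹ * (v * w) ∈ zpowers v ⊔ K := mul_mem (inv_mem (mem_sup_left (mem_zpowers v)))
      (mem_sup_right h)
    rwa [inv_mul_cancel_left] at this)
  have h3 := hinv (v * w) (mul_mem hv hw) hvw d hd
  rw [show v * w * d * (v * w)⁻¹ = v * (w * d * w⁻¹) * v⁻¹ by group, hinv w hw hw' d hd,
    hinv v hv hvK _ (inv_mem hd), inv_inv] at h3
  exact eq_one_of_inv_eq X.hp2 (exists_pow_of_isPGroup hR hd.1) h3.symm

theorem false_of_not_centralize (hne : ∀ t ∈ (Q : Subgroup G), t ≠ 1 → Oz p t ≠ ⊥)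
    (hnc : ∀ t ∈ (Q : Subgroup G), t ≠ 1 →
      ¬ Oz p t ≤ centralizer ((Q : Subgroup G) : Set G)) : False := by
  classical
  choose! P hPO hPQ using fun t (ht : t ∈ (Q : Subgroup G) ∧ t ≠ 1) =>
    X.exists_good hne hnc ht.1 ht.2
  have huniq : ∀ {w : G}, w ∈ (Q : Subgroup G) → w ≠ 1 → ∀ R : Sylow p G,
      (Q : Subgroup G) ≤ normalizer ((R : Subgroup G) : Set G) →
      (R : Subgroup G) ⊓ centralizer ({w} : Set G) ≠ ⊥ → R = P w :=
    fun {w} hw hw1 R hR hD =>
      X.good_unique hnc hw hw1 hR (hPQ w ⟨hw, hw1⟩) (hPO w ⟨hw, hw1⟩) hD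
  have hconj : ∀ g ∈ normalizer ((Q : Subgroup G) : Set G), ∀ u ∈ (Q : Subgroup G), u ≠ 1 →
      g • P u = P (g * u * g⁻¹) := by
    intro g hg u hu hu1
    have hgu : g * u * g⁻¹ ∈ (Q : Subgroup G) := (mem_normalizer_iff.1 hg u).1 hu
    refine huniq hgu (fun h => hu1 (conj_eq_one_iff.1 h)) _ ?_ ?_
    · show (Q : Subgroup G) ≤ normalizer
        ((CfsgLib.Fusion.conjBy g (P u : Subgroup G) : Subgroup G) : Set G)
      rw [← CfsgLib.Fusion.conjBy_normalizer]
      intro q hq
      have hq' : g⁻¹ * q * g ∈ (Q : Subgroup G) :=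
        (mem_normalizer_iff.1 hg _).2 (by rw [show g * (g⁻¹ * q * g) * g⁻¹ = q by group]; exact hq)
      rw [show q = g * (g⁻¹ * q * g) * g⁻¹ by group]
      exact CfsgLib.Fusion.conj_mem_conjBy (hPQ u ⟨hu, hu1⟩ hq')
    · obtain ⟨⟨d, hd⟩, hd1⟩ := ne_bot_iff_exists_ne_one.1 (hne u hu hu1)
      intro h
      refine hd1 (Subtype.ext ((conj_eq_one_iff (a := g) (b := (d : G))).1 (mem_bot.1 (h.le ⟨?_, ?_⟩))))
      · exact ⟨d, hPO u ⟨hu, hu1⟩ hd, rfl⟩
      · exact mem_centralizer_singleton_iff.2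
          (((X.mem_Oz hu hu1).1 hd).1.map (MulAut.conj g)).eq
  -- the attached subgroups are all equal
  have hall : ∀ u ∈ (Q : Subgroup G), u ≠ 1 → ∀ v ∈ (Q : Subgroup G), v ≠ 1 → P u = P v := by
    by_cases hb3 : 3 ≤ b
    · intro u hu hu1 v hv hv1
      obtain ⟨K, hKQ, hKc, hKD⟩ := X.exists_hyperplane (P u).2 (X.sylow_ne_bot _) (hPQ u ⟨hu, hu1⟩)
      obtain ⟨L, hLQ, hLc, hLD⟩ := X.exists_hyperplane (P v).2 (X.sylow_ne_bot _) (hPQ v ⟨hv, hv1⟩)
      have hKL : K ⊓ L ≠ ⊥ := fun h => by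
        have h1 := CfsgLib.Fusion.card_mul_le_sup_inf K L
        rw [h, card_bot, mul_one] at h1
        have h2 := h1.trans (card_le_of_le (sup_le hKQ hLQ))
        rw [X.cardQ] at h2 hKc hLc
        have h8 : 8 ≤ 2 ^ b := le_trans (by norm_num) (Nat.pow_le_pow_right (show 2 > 0 by norm_num) hb3)
        nlinarith
      obtain ⟨⟨w, hwK, hwL⟩, hw1⟩ := ne_bot_iff_exists_ne_one.1 hKL
      have hw1' : w ≠ 1 := fun h => hw1 (Subtype.ext h)
      have hDw : ∀ {R M : Subgroup G}, w ∈ M → R ⊓ centralizer (M : Set G) ≠ ⊥ →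
          R ⊓ centralizer ({w} : Set G) ≠ ⊥ := fun hwM h e =>
        h (le_bot_iff.1 ((inf_le_inf_left _ (centralizer_le (Set.singleton_subset_iff.2 hwM))).trans
          e.le))
      rw [huniq (hKQ hwK) hw1' _ (hPQ u ⟨hu, hu1⟩) (hDw hwK hKD),
        huniq (hKQ hwK) hw1' _ (hPQ v ⟨hv, hv1⟩) (hDw hwL hLD)]
    have hb2 : b = 2 := by have := X.hb; omega
    by_contra hcon
    push Not at hcon
    obtain ⟨u, hu, hu1, v, hv, hv1, huv⟩ := hcon
    -- the map is injective
    have hinj : ∀ a ∈ (Q : Subgroup G), a ≠ 1 → ∀ c ∈ (Q : Subgroup G), c ≠ 1 → a ≠ c →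
        P a ≠ P c := by
      intro a ha ha1 c hc hc1 hac heq
      obtain ⟨i, hi⟩ := X.y_trans a ha ha1 c hc hc1
      set z := y ^ i
      have hzN : z ∈ normalizer ((Q : Subgroup G) : Set G) := zpow_mem X.yN i
      set d := z * c * z⁻¹ with hd
      have hdQ : d ∈ (Q : Subgroup G) := (mem_normalizer_iff.1 hzN c).1 hc
      have hd1 : d ≠ 1 := fun h => hc1 (conj_eq_one_iff.1 h)
      have hdc : d ≠ c := fun h => hac (mul_left_cancel (mul_right_cancel (hi.trans h.symm)))
      have hda : d ≠ a := by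
        intro h
        obtain ⟨k, hk⟩ := X.yp
        have hzk : z ^ p ^ k = 1 := by
          rw [← zpow_natCast, ← zpow_mul, mul_comm, zpow_mul, zpow_natCast, hk, one_zpow]
        have h2 : Commute (z ^ 2) a := by
          refine mul_inv_eq_iff_eq_mul.1 ?_
          rw [show z ^ 2 * a * (z ^ 2)⁻¹ = z * (z * a * z⁻¹) * z⁻¹ by rw [pow_two]; group, hi, ← hd, h]
        obtain ⟨j, hj⟩ := exists_pow_eq_self_of_coprime (x := z) (n := 2)
          ((Nat.Coprime.coprime_dvd_left (orderOf_dvd_of_pow_eq_one hzk)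
            (((Nat.coprime_primes hp.out Nat.prime_two).2 X.hp2).pow_left k)).symm)
        have h3 : Commute z a := hj ▸ h2.pow_left j
        exact hac (by rw [← hi, h3.eq, mul_inv_cancel_right])
      have h1 : P c = P d := by
        have e1 := hconj z hzN a ha ha1
        have e2 := hconj z hzN c hc hc1
        rw [hi] at e1
        calc P c = z • P a := e1.symm
          _ = z • P c := by rw [heq]
          _ = P d := e2
      haveI := Fintype.ofFinite (Q : Subgroup G)
      have hset : ({⟨1, one_mem _⟩, ⟨a, ha⟩, ⟨c, hc⟩, ⟨d, hdQ⟩} : Finset (Q : Subgroup G)) =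
          Finset.univ := by
        refine Finset.eq_univ_of_card _ ?_
        have hc4 := X.cardQ
        rw [hb2, Nat.card_eq_fintype_card] at hc4
        rw [hc4, Finset.card_insert_of_notMem, Finset.card_insert_of_notMem,
          Finset.card_insert_of_notMem, Finset.card_singleton]
        · rfl
        · simp [Subtype.ext_iff, hdc.symm]
        · simp [Subtype.ext_iff, hac, hda.symm]
        · simp [Subtype.ext_iff, Ne.symm ha1, Ne.symm hc1, Ne.symm hd1]
      have hPa : ∀ x ∈ (Q : Subgroup G), x ≠ 1 → P x = P a := by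
        intro x hx hx1
        have := hset.ge (Finset.mem_univ (⟨x, hx⟩ : (Q : Subgroup G)))
        simp only [Finset.mem_insert, Finset.mem_singleton, Subtype.ext_iff] at this
        rcases this with e | e | e | e <;> subst e
        · exact absurd rfl hx1
        · rfl
        · exact heq.symm
        · exact h1.symm.trans heq.symm
      exact huv ((hPa u hu hu1).trans (hPa v hv hv1).symm)
    have hno : ∀ a ∈ (Q : Subgroup G), a ≠ 1 → ∀ c ∈ (Q : Subgroup G), c ≠ 1 → a ≠ c →
        ∀ d ∈ (P a : Subgroup G), c * d * c⁻¹ = d⁻¹ := by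
      intro a ha ha1 c hc hc1 hac d hd
      refine X.inverts (P a).2 (X.orderOf_of_mem_Q hc hc1) (hPQ a ⟨ha, ha1⟩ hc) (fun e he hec => ?_) hd
      by_contra he1
      refine hinj a ha ha1 c hc hc1 hac (huniq hc hc1 _ (hPQ a ⟨ha, ha1⟩) fun h => he1 ?_)
      exact mem_bot.1 (h.le ⟨he, mem_centralizer_singleton_iff.2 hec.eq⟩)
    set w := u * v
    have hne' : u ≠ v := fun h => huv (by rw [h])
    have hw : w ∈ (Q : Subgroup G) := mul_mem hu hv
    have hw1 : w ≠ 1 := fun h => hne' (by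
      rw [eq_inv_of_mul_eq_one_left h, inv_of_orderOf_two (X.orderOf_of_mem_Q hv hv1)])
    have huw : u ≠ w := fun h => hv1 (mul_eq_left.1 h.symm)
    have hfix : ∀ d ∈ (P u : Subgroup G), Commute d u := by
      intro d hd
      have e1 : v * d * v⁻¹ = d⁻¹ := hno u hu hu1 v hv hv1 hne' d hd
      have e2 : w * d⁻¹ * w⁻¹ = d := by
        rw [hno u hu hu1 w hw hw1 huw _ (inv_mem hd), inv_inv]
      have e3 : u * d * u⁻¹ = d := by
        rw [show u * d * u⁻¹ = w * (v * d * v⁻¹) * w⁻¹ by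
          simp only [w]
          rw [show u * v * (v * d * v⁻¹) * (u * v)⁻¹ = u * (v * v) * d * (v * v)⁻¹ * u⁻¹ by group,
            X.sqQ hv, mul_one, inv_one, mul_one], e1, e2]
      exact (mul_inv_eq_iff_eq_mul.1 e3).symm
    set R := P u
    have hROz : Oz p u = (R : Subgroup G) := le_antisymm (hPO u ⟨hu, hu1⟩) fun d hd =>
      (X.mem_Oz hu hu1).2 ⟨hfix d hd, exists_pow_of_isPGroup R.2 hd⟩
    obtain ⟨⟨d₀, hd₀⟩, hd₀1⟩ := ne_bot_iff_exists_ne_one.1 (X.sylow_ne_bot R)
    have hd₀' : d₀ ≠ 1 := fun h => hd₀1 (Subtype.ext h)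
    set m := Nat.card (R : Subgroup G) with hm
    set N := normalizer ((R : Subgroup G) : Set G) with hN
    set C := centralizer ((R : Subgroup G) : Set G) with hC
    have hp3 : p = 3 := by
      have := X.hpb
      rw [hb2] at this
      omega
    have hQN : (Q : Subgroup G) ≤ N := hPQ u ⟨hu, hu1⟩
    have hNne : N ≠ ⊤ := X.normalizer_ne_top_of_isPGroup R.2 (X.sylow_ne_bot R)
    have heven : ∀ H : Subgroup G, H ≠ ⊤ → 2 ∣ Nat.card H → Nat.card H ∣ 4 * m := fun H hH h2 => by
      have := X.card_dvd hH h2 R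
      rwa [hb2] at this
    have hNc : Nat.card N = 4 * m := by
      refine Nat.dvd_antisymm (heven N hNne (X.two_dvd_of_le hQN)) ?_
      refine Nat.Coprime.mul_dvd_of_dvd_of_dvd (((X.oddP R).pow_right 2).symm) ?_
        (card_dvd_of_le le_normalizer)
      have := card_dvd_of_le hQN
      rwa [X.cardQ, hb2] at this
    have hRC : (R : Subgroup G) ≤ C := fun x hx => mem_centralizer_iff.2 fun c hc =>
      X.comm_of_isPGroup R.2 hc hx
    have huC : u ∈ C := mem_centralizer_iff.2 fun c hc => (hfix c hc).eq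
    have hvC : v ∉ C := fun h => by
      have e1 := hno u hu hu1 v hv hv1 hne' d₀ hd₀
      rw [← mem_centralizer_iff.1 h d₀ hd₀, mul_inv_cancel_right] at e1
      exact hd₀' (eq_one_of_inv_eq X.hp2 (exists_pow_of_isPGroup R.2 hd₀) e1.symm)
    have huo := X.orderOf_of_mem_Q hu hu1
    have h2C : 2 ∣ Nat.card C := huo ▸ orderOf_dvd_natCard C huC
    have hCN : C ≤ N := centralizer_le_normalizer _
    have hCc : Nat.card C = 2 * m := by
      obtain ⟨k, hk⟩ : 2 * m ∣ Nat.card C :=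
        Nat.Coprime.mul_dvd_of_dvd_of_dvd (X.oddP R).symm h2C (card_dvd_of_le hRC)
      have h4 := hNc ▸ card_dvd_of_le hCN
      have hk2 : k ∣ 2 := by
        rw [hk, show 4 * m = 2 * m * 2 by ring] at h4
        exact (Nat.mul_dvd_mul_iff_left (by have : 0 < m := Nat.card_pos; omega)).1 h4
      rcases (Nat.dvd_prime Nat.prime_two).1 hk2 with rfl | rfl
      · rw [hk, mul_one]
      · exact absurd ((eq_of_le_of_card_ge hCN (by rw [hk, hNc]; omega)).ge (hQN hv)) hvC
    -- the shape of `C`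
    have hCform : ∀ x ∈ C, ∃ d ∈ (R : Subgroup G), x = d ∨ x = d * u := by
      intro x hx
      let f : Fin 2 × ↥(R : Subgroup G) → ↥C := fun s =>
        ⟨s.2 * u ^ (s.1 : ℕ), mul_mem (hRC s.2.2) (pow_mem huC _)⟩
      have hf : Function.Injective f := by
        rintro ⟨i, a⟩ ⟨j, c⟩ h
        have h1 : (a : G) * u ^ (i : ℕ) = c * u ^ (j : ℕ) := congrArg Subtype.val h
        have hu' : u ∉ (R : Subgroup G) := fun hm => hu1 (eq_one_of_two_pow_of_ppow X.hp2
          ⟨1, by rw [pow_one, ← huo, pow_orderOf_eq_one]⟩ (exists_pow_of_isPGroup R.2 hm))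
        fin_cases i <;> fin_cases j
        · simp only [Fin.zero_eta, Fin.val_zero, pow_zero, mul_one] at h1
          exact Prod.ext rfl (Subtype.ext h1)
        · simp only [Fin.zero_eta, Fin.val_zero, pow_zero, mul_one, Fin.mk_one, Fin.val_one,
            pow_one] at h1
          exact absurd (by rw [show u = (c : G)⁻¹ * a by rw [h1, inv_mul_cancel_left]]; exact mul_mem (inv_mem c.2) a.2) hu'
        · simp only [Fin.zero_eta, Fin.val_zero, pow_zero, mul_one, Fin.mk_one, Fin.val_one,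
            pow_one] at h1
          exact absurd (by rw [show u = (a : G)⁻¹ * c by rw [← h1, inv_mul_cancel_left]]; exact mul_mem (inv_mem a.2) c.2) hu'
        · simp only [Fin.mk_one, Fin.val_one, pow_one] at h1
          exact Prod.ext rfl (Subtype.ext (mul_right_cancel h1))
      obtain ⟨⟨i, d⟩, hd⟩ := ((Nat.bijective_iff_injective_and_card f).2
        ⟨hf, by rw [Nat.card_prod, Nat.card_fin, hCc]⟩).2 ⟨x, hx⟩
      have h1 : (d : G) * u ^ (i : ℕ) = x := congrArg Subtype.val hd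
      refine ⟨d, d.2, ?_⟩
      fin_cases i
      · simp only [Fin.zero_eta, Fin.val_zero, pow_zero, mul_one] at h1
        exact Or.inl h1.symm
      · simp only [Fin.mk_one, Fin.val_one, pow_one] at h1
        exact Or.inr h1.symm
    have hnorm : N ≤ normalizer (C : Set G) :=
      CfsgLib.Coprime.normalizer_le_normalizer_centralizer (R : Subgroup G)
    have hTI : Cfsg.IsTISubset (C : Set G) := by
      intro g hg x hx hgx
      by_contra hx1
      refine hg (hnorm ?_)
      have hpm : ∀ e ∈ (R : Subgroup G), e ^ m = 1 ∧ (e * u) ^ m = u := by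
        intro e he
        have h1 : e ^ m = 1 := congrArg Subtype.val (pow_card_eq_one' (x := (⟨e, he⟩ : (R : Subgroup G))))
        obtain ⟨j, hj⟩ : Odd m := Nat.coprime_two_right.1 (X.oddP R)
        refine ⟨h1, ?_⟩
        rw [(hfix e he).mul_pow, h1, one_mul, hj, pow_succ, pow_mul, pow_two, X.sqQ hu, one_pow,
          one_mul]
      obtain ⟨d, hd, hxd⟩ := hCform x hx
      obtain ⟨d', hd', hgd⟩ := hCform _ hgx
      rcases hxd with hxd | hxd <;> rcases hgd with hdd | hdd <;> rw [hxd] at hdd hx1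
      rotate_left
      · have h1 := congrArg (· ^ m) hdd
        simp only [conj_pow, (hpm d hd).1, (hpm d' hd').2, mul_one, mul_inv_cancel] at h1
        exact absurd h1.symm hu1
      · have h1 := congrArg (· ^ m) hdd
        simp only [conj_pow, (hpm d hd).2, (hpm d' hd').1] at h1
        exact absurd (conj_eq_one_iff.1 h1) hu1
      · have h1 := congrArg (· ^ m) hdd
        simp only [conj_pow, (hpm d hd).2, (hpm d' hd').2] at h1
        refine (sup_le (hROz.le.trans le_normalizer) hQN : Oz p u ⊔ (Q : Subgroup G) ≤ N)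
          (X.centralizer_le_Oz_sup hu hu1 (mem_centralizer_singleton_iff.2 ?_))
        exact mul_inv_eq_iff_eq_mul.1 h1
      · set H := normalizer (zpowers d' : Set G)
        have hd'p := exists_pow_of_isPGroup R.2 hd'
        have hd'1 : d' ≠ 1 := fun h => hx1 (conj_eq_one_iff.1 (hdd.trans h))
        have hQH : (Q : Subgroup G) ≤ H := by
          refine le_normalizer_of_conj_mem fun q hq e he => ?_
          obtain ⟨i, rfl⟩ := mem_zpowers_iff.1 he
          rw [← conj_zpow]
          refine zpow_mem ?_ i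
          by_cases hq1 : q = 1
          · simp [hq1]
          by_cases hqu : q = u
          · rw [hqu, ← (hfix d' hd').eq, mul_inv_cancel_right]
            exact mem_zpowers d'
          · rw [hno u hu hu1 q hq hq1 (Ne.symm hqu) d' hd']
            exact inv_mem (mem_zpowers d')
        have hle : ∀ S : Sylow p G, d' ∈ (S : Subgroup G) → (S : Subgroup G) ≤ H := fun S hS c hc =>
          centralizer_le_normalizer _ (mem_centralizer_iff.2 fun e he =>
            X.comm_of_isPGroup S.2 (zpowers_le.2 hS he) hc)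
        have hH := X.normalizer_ne_top_of_isPGroup (isPGroup_zpowers hd'p) (zpowers_ne_bot.2 hd'1)
        have hgR : d' ∈ ((g • R : Sylow p G) : Subgroup G) := ⟨d, hd, hdd⟩
        rcases X.dich hH hQH with h | ⟨-, -, h⟩
        · refine CfsgLib.Fusion.conjBy_eq_iff.1 ?_
          exact ((g • R).is_maximal' (core_isPGroup p H) (h _ (hle _ hgR) (g • R).2)).symm.trans
            (R.is_maximal' (core_isPGroup p H) (h _ (hle _ hd') R.2))
        · exact absurd (mem_centralizer_iff.2 fun c hc =>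
            (mem_centralizer_iff.1 (h _ (hle _ hd') R.2 hQN hc) v hv).symm) hvC
    subst hp3
    exact Cfsg.Agent.S4018.result R (X.ab R) hNc hCc hTI heven X.simple
  obtain ⟨u, hu, hu'⟩ := X.exists_two
  have hu1 := ne_one_of_orderOf_two hu'
  set R := P u
  have hyR : y ∈ normalizer ((R : Subgroup G) : Set G) := by
    refine CfsgLib.Fusion.conjBy_eq_iff.1 ?_
    have h := hconj y X.yN u hu hu1
    rw [hall _ ((mem_normalizer_iff.1 X.yN u).1 hu) (fun e => hu1 (conj_eq_one_iff.1 e)) u hu hu1] at h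
    exact congrArg (fun S : Sylow p G => (S : Subgroup G)) h
  set N := normalizer ((R : Subgroup G) : Set G)
  have hQN : (Q : Subgroup G) ≤ N := hPQ u ⟨hu, hu1⟩
  have hNne : N ≠ ⊤ := X.normalizer_ne_top_of_isPGroup R.2 (X.sylow_ne_bot R)
  rcases X.dich hNne hQN with h | ⟨-, -, h⟩
  · refine X.ync (mem_centralizer_iff.2 fun q hq => ?_)
    have hyc : y ∈ core p N := h _ (zpowers_le.2 hyR) (isPGroup_zpowers X.yp) (mem_zpowers y)
    set c := y * q * y⁻¹ * q⁻¹
    have h1 : c ∈ core p N := by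
      rw [show c = y * (q * y⁻¹ * q⁻¹) by simp only [c]; group]
      exact mul_mem hyc ((mem_normalizer_iff.1 (le_normalizer_core p N (hQN hq)) _).1 (inv_mem hyc))
    have h2 : c ∈ (Q : Subgroup G) :=
      mul_mem ((mem_normalizer_iff.1 X.yN q).1 hq) (inv_mem hq)
    have h3 : c = 1 := eq_one_of_two_pow_of_ppow X.hp2 (exists_pow_of_isPGroup Q.2 h2)
      (exists_pow_of_isPGroup (core_isPGroup p N) h1)
    exact (mul_inv_eq_iff_eq_mul.1 (mul_inv_eq_one.1 h3)).symm
  · exact hnc u hu hu1 ((hPO u ⟨hu, hu1⟩).trans (h _ le_normalizer R.2 hQN))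

end Ctx

end CfsgLib.LargePrimeMix
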